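import Cfsg.Agent.Lib.GW.Pair.Tools

/-!
# Fusion of a four-group in a subgroup, and odd centralisers

A subgroup containing a four-group and rotated four-groups through two of its involutions rotates
it.  The centraliser of an invariant group moved by all three involutions has odd order.
-/

set_option autoImplicit false

namespace CfsgLib.GW.Pair

open Subgroup DihedralGroup
open CfsgLib.TwoGroups CfsgLib.TwoGroups.Dihedral
open CfsgLib.GW.Dne
open CfsgLib.Signalizer (involution_sq involution_inv involution_ne_one orderOf_eq_two_of orderOf_conj)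

universe u

variable {G : Type u} [Group G]

theorem rot_inv {t u g : G} (h : Rot t u g) : Rot u t g⁻¹ := by
  refine ⟨h.hu, h.ht, h.ne.symm, h.comm.symm, ?_, ?_⟩
  · nth_rewrite 1 [← h.conj1]; group
  · have e : g * (u * t) * g⁻¹ = t := by
      rw [show g * (u * t) * g⁻¹ = g * u * g⁻¹ * (g * t * g⁻¹) by group, h.conj1, h.conj2,
        mul_assoc, involution_sq h.hu, mul_one]
    nth_rewrite 1 [← e]
    group

/-- A normal `p`-subgroup structure on the whole group is impossible. -/
theorem normalizer_ne_top [Finite G] (σ : Hyp G) {r : ℕ} [Fact r.Prime] (hr : r ≠ 2)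
    {E : Subgroup G} (hE : IsPGroup r E) (hE1 : E ≠ ⊥) {t : G} (ht : orderOf t = 2) :
    normalizer (E : Set G) ≠ ⊤ := by
  intro e
  haveI := σ.simple
  haveI : E.Normal := normalizer_eq_top_iff.1 e
  rcases Subgroup.Normal.eq_bot_or_eq_top (H := E) inferInstance with h | h
  · exact hE1 h
  · have h1 : Odd (orderOf t) :=
      odd_orderOf_of_mem (Setting.odd_of_pGroup hr hE) (h ▸ mem_top t)
    rw [ht] at h1
    exact absurd h1 (by decide)

theorem commute_of_mem {t u a : G} (h : Four t u) (ha : a ∈ four t u) : Commute a t ∧ Commute a u := by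
  rcases mem_four_cases h.ht h.hu h.comm ha with rfl | rfl | rfl | rfl
  exacts [⟨Commute.one_left _, Commute.one_left _⟩, ⟨Commute.refl _, h.comm⟩,
    ⟨h.comm.symm, Commute.refl _⟩,
    ⟨(Commute.refl t).mul_left h.comm.symm, h.comm.mul_left (Commute.refl u)⟩]

variable [Finite G]

/-- A proper `p`-subgroup grows in its normaliser. -/
theorem lt_inf_normalizer {r : ℕ} [Fact r.Prime] {E P : Subgroup G} (hP : IsPGroup r P)
    (h : E < P) : E < P ⊓ normalizer (E : Set G) := by
  haveI := hP.isNilpotent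
  refine lt_of_le_of_ne (le_inf h.le le_normalizer) fun e => ?_
  have hlt : E.subgroupOf P < ⊤ := by
    rw [lt_top_iff_ne_top, Ne, subgroupOf_eq_top]
    exact fun h' => h.not_ge h'
  have hgrow := Group.normalizerCondition_of_isNilpotent _ hlt
  rw [← subgroupOf_normalizer_eq h.le] at hgrow
  obtain ⟨g, hg, hgE⟩ := SetLike.exists_of_lt hgrow
  rw [mem_subgroupOf] at hg hgE
  exact hgE (e ▸ (⟨g.2, hg⟩ : (g : G) ∈ P ⊓ normalizer (E : Set G)))

omit [Finite G] in
/-- A group with a rotated four-group has no normal 2-complement. -/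
theorem not_complement_of_rot [Finite G] {H : Subgroup G} {a b g : G} (ha : a ∈ H) (hb : b ∈ H)
    (hg : g ∈ H) (hR : Rot a b g) : ¬ Cfsg.HasNormalPComplement 2 H := by
  intro hc
  have : Fact (Nat.Prime 2) := ⟨Nat.prime_two⟩
  set π := QuotientGroup.mk' (Cfsg.pResidual 2 H) with hπ
  set a₀ : H := ⟨a, ha⟩ with ha₀
  set b₀ : H := ⟨b, hb⟩ with hb₀
  set g₀ : H := ⟨g, hg⟩ with hg₀
  have e1 : g₀ * a₀ * g₀⁻¹ = b₀ := Subtype.ext hR.conj1
  have e2 : g₀ * b₀ * g₀⁻¹ = a₀ * b₀ := Subtype.ext hR.conj2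
  have e3 : g₀ ^ 3 * a₀ * (g₀ ^ 3)⁻¹ = a₀ := by
    have e4 : g₀ * (a₀ * b₀) * g₀⁻¹ = a₀ := by
      rw [show g₀ * (a₀ * b₀) * g₀⁻¹ = g₀ * a₀ * g₀⁻¹ * (g₀ * b₀ * g₀⁻¹) by group, e1, e2]
      exact Subtype.ext (show b * (a * b) = a by
        rw [← mul_assoc, hR.comm.symm.eq, mul_assoc, involution_sq hR.hu, mul_one])
    calc g₀ ^ 3 * a₀ * (g₀ ^ 3)⁻¹ = g₀ * (g₀ * (g₀ * a₀ * g₀⁻¹) * g₀⁻¹) * g₀⁻¹ := by
          rw [pow_succ, pow_two]; group
      _ = a₀ := by rw [e1, e2, e4]
  obtain ⟨k, hk⟩ := CfsgLib.Transfer.isPGroup_quotient_pResidual (π g₀)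
  have hcop : Nat.Coprime 3 (orderOf (π g₀)) :=
    (show Nat.Coprime 3 (2 ^ k) from Nat.Coprime.pow_right k (by norm_num)).coprime_dvd_right
      (orderOf_dvd_of_pow_eq_one hk)
  obtain ⟨m, hm⟩ := exists_pow_eq_self_of_coprime hcop
  have h1 : Commute (π (g₀ ^ 3)) (π a₀) := (commute_of_conj_eq e3).map π
  rw [map_pow] at h1
  have h2 : Commute (π g₀) (π a₀) := hm ▸ h1.pow_left m
  have h3 : π b₀ = π a₀ := by
    rw [← e1, map_mul, map_mul, map_inv, h2.eq, mul_inv_cancel_right]
  have h4 : a₀⁻¹ * b₀ ∈ Cfsg.pResidual 2 H := QuotientGroup.eq.1 h3.symm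
  rw [CfsgLib.Transfer.mem_pResidual_iff_coprime hc, ← Subgroup.orderOf_coe,
    show ((a₀⁻¹ * b₀ : H) : G) = a⁻¹ * b from rfl, involution_inv hR.ht,
    (four_of_rot hR).orderOf_mul] at h4
  norm_num at h4

variable (σ : Hyp G)

include σ in
/-- In a 2-group an element centralising a four-group lies in it. -/
theorem mem_four_of_commute {W : Subgroup G} (hW : IsPGroup 2 W) {t u n : G} (h : Four t u)
    (ht : t ∈ W) (hu : u ∈ W) (hn : n ∈ W) (h1 : Commute n t) (h2 : Commute n u) :
    n ∈ four t u := by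
  obtain ⟨x, hx⟩ := exists_pull σ.range hW
  obtain ⟨a, ha⟩ := hx n hn
  obtain ⟨b, hb⟩ := hx t ht
  obtain ⟨c, hc⟩ := hx u hu
  have hcm : ∀ {p q : G} {p' q' : DihedralGroup (2 ^ σ.n)}, σ.f p' = x * p * x⁻¹ →
      σ.f q' = x * q * x⁻¹ → Commute p q → Commute p' q' := fun hp hq hpq => σ.inj (by
    rw [map_mul, map_mul, hp, hq]
    exact (hpq.map (MulAut.conj x).toMonoidHom).eq)
  have hn2 : n * n = 1 := by
    have hab := hcm ha hb h1
    have hac := hcm ha hc h2
    rcases a with k | m
    · have key : ∀ j : ZMod (2 ^ σ.n), Commute (DihedralGroup.r k) (sr j) → n * n = 1 := by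
        intro j hj
        have h' : DihedralGroup.r k * sr j = sr j * DihedralGroup.r k := hj
        rw [r_mul_sr, sr_mul_r, sr.injEq] at h'
        have h2 : (DihedralGroup.r k : DihedralGroup (2 ^ σ.n)) * DihedralGroup.r k = 1 := by
          rw [r_mul_r, show k + k = 0 by linear_combination -h']; rfl
        have h3 := congrArg σ.f h2
        rw [map_mul, map_one, ha,
          show x * n * x⁻¹ * (x * n * x⁻¹) = x * (n * n) * x⁻¹ by group] at h3
        exact conj_eq_one_iff.1 h3
      rcases b with i | j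
      · rcases c with i' | j'
        · exfalso
          have hi : ∀ {p : G} {i : ZMod (2 ^ σ.n)}, σ.f (DihedralGroup.r i) = x * p * x⁻¹ →
              orderOf p = 2 → i = half σ.n := by
            intro p i hp ho
            have h3 : (DihedralGroup.r i : DihedralGroup (2 ^ σ.n)) * DihedralGroup.r i = 1 := σ.inj (by
              rw [map_mul, map_one, hp, show x * p * x⁻¹ * (x * p * x⁻¹) = x * (p * p) * x⁻¹ by group,
                involution_sq ho, mul_one, mul_inv_cancel])
            rcases sq_eq_one_r σ.pos h3 with e | e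
            · exfalso
              rw [e, map_one] at hp
              exact involution_ne_one ho (conj_eq_one_iff.1 hp.symm)
            · exact e
          rw [hi hb h.ht, ← hi hc h.hu, hc] at hb
          exact h.ne (mul_left_cancel (mul_right_cancel hb)).symm
        · exact key j' hac
      · exact key j hab
    · have h3 := congrArg σ.f (sr_mul_self (n := 2 ^ σ.n) m)
      rw [map_mul, map_one, ha,
        show x * n * x⁻¹ * (x * n * x⁻¹) = x * (n * n) * x⁻¹ by group] at h3
      exact conj_eq_one_iff.1 h3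
  rcases three_involutions σ.inj σ.range σ.pos h.ht h.hu hn2 h.ne h.comm h1.symm h2.symm with
    rfl | rfl | rfl | rfl
  exacts [one_mem _, subset_closure (by simp), subset_closure (by simp),
    mul_mem (subset_closure (by simp)) (subset_closure (by simp))]

include σ in
theorem exists_swap_of_central {W : Subgroup G} (hW : IsPGroup 2 W) {t u : G} (h : Four t u)
    (hTW : four t u ≤ W) (hc : ∀ x ∈ W, Commute x t) (hne : Nat.card W ≠ 4) :
    ∃ n ∈ W, n * t * n⁻¹ = t ∧ n * u * n⁻¹ = t * u := by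
  have : Fact (Nat.Prime 2) := ⟨Nat.prime_two⟩
  have hlt : four t u < W := lt_of_le_of_ne hTW fun e => hne (e ▸ h.card)
  obtain ⟨n, hn, hnT⟩ := SetLike.exists_of_lt (lt_inf_normalizer hW hlt)
  have htW : t ∈ W := hTW (subset_closure (by simp))
  have huW : u ∈ W := hTW (subset_closure (by simp))
  refine ⟨n, hn.1, conj_eq_of_commute (hc n hn.1), ?_⟩
  have h1 : n * u * n⁻¹ ∈ four t u := (mem_normalizer_iff.1 hn.2 u).1 (subset_closure (by simp))
  rcases mem_four_cases h.ht h.hu h.comm h1 with e | e | e | e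
  · exact absurd (conj_eq_one_iff.1 e) (involution_ne_one h.hu)
  · exfalso
    rw [← conj_eq_of_commute (hc n hn.1)] at e
    exact h.ne (mul_left_cancel (mul_right_cancel e)).symm
  · exact absurd (mem_four_of_commute σ hW h htW huW hn.1 (hc n hn.1) (commute_of_conj_eq e)) hnT
  · exact e

include σ in
/-- Rotated four-groups through two involutions of a four-group give a rotation of it. -/
theorem fused_of_two {H : Subgroup G} {t u s₁ g₁ s₂ g₂ : G} (h : Four t u) (htH : t ∈ H)
    (huH : u ∈ H) (hs₁ : s₁ ∈ H) (hg₁ : g₁ ∈ H) (h₁ : Rot t s₁ g₁) (hs₂ : s₂ ∈ H) (hg₂ : g₂ ∈ H)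
    (h₂ : Rot u s₂ g₂) : ∃ g ∈ H, Rot t u g := by
  classical
  have : Fact (Nat.Prime 2) := ⟨Nat.prime_two⟩
  obtain ⟨W, w, s, g, -, hR, hwH, hsH, hgH, hTW, hsW, hc⟩ :=
    exists_central σ h htH huH le_rfl le_normalizer (not_complement_of_rot htH hs₁ hg₁ h₁)
  set WG : Subgroup G := (W : Subgroup H).map H.subtype with hWG
  have hWH : WG ≤ H := map_subtype_le _
  have hWp : IsPGroup 2 WG := W.2.map _
  -- conjugates of `w`
  have hconj : ∀ {a b g' : G}, a ∈ H → b ∈ H → g' ∈ H → Rot a b g' → ∃ c ∈ H, c * a * c⁻¹ = w := by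
    intro a b g' ha hb hg' hR'
    obtain ⟨c, hc'⟩ := CfsgLib.TwoGroups.exists_conj_le_sylow W
      ((isPGroup_four hR'.ht hR'.hu hR'.comm).comap_of_injective H.subtype H.subtype_injective)
    have hin : ∀ x, x ∈ four a b → x ∈ H → Commute ((c : G) * x * (c : G)⁻¹) w := fun x hx hxH =>
      hc _ ⟨_, hc' (CfsgLib.TwoGroups.conj_mem_map_conj
        (show (⟨x, hxH⟩ : H) ∈ (four a b).subgroupOf H from hx)), rfl⟩
    have hRc := rot_conj hR' (c : G)
    rcases (three_involutions σ.inj σ.range σ.pos hRc.ht hRc.hu (involution_sq hR.ht) hRc.ne hRc.comm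
        (hin a (subset_closure (by simp)) ha) (hin b (subset_closure (by simp)) hb)).resolve_left
        (involution_ne_one hR.ht) with e | e | e
    · exact ⟨c, c.2, e.symm⟩
    · refine ⟨(c : G) * g', mul_mem c.2 hg', ?_⟩
      rw [e, ← hR'.conj1]; group
    · refine ⟨(c : G) * (g' * g'), mul_mem c.2 (mul_mem hg' hg'), ?_⟩
      rw [e, show (c : G) * (g' * g') * a * ((c : G) * (g' * g'))⁻¹ =
        (c : G) * (g' * (g' * a * g'⁻¹) * g'⁻¹) * (c : G)⁻¹ by group, hR'.conj1, hR'.conj2]
      group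
  -- Sylow subgroups through the four-group with a given centre
  have hcent : ∀ {a : G}, a ∈ four t u → (∃ c ∈ H, c * a * c⁻¹ = w) →
      ∃ W' : Subgroup G, IsPGroup 2 W' ∧ W' ≤ H ∧ four t u ≤ W' ∧
        Nat.card W' = Nat.card WG ∧ ∀ x ∈ W', Commute x a := by
    rintro a haF ⟨c, hcH, hca⟩
    set C : Subgroup G := H ⊓ centralizer ({w} : Set G) with hC
    have hWC : WG ≤ C := le_inf hWH fun x hx => mem_centralizer_of_commute (hc x hx)
    have hTC : (four t u).map (MulAut.conj c).toMonoidHom ≤ C := by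
      rintro _ ⟨x, hx, rfl⟩
      refine ⟨H.mul_mem (H.mul_mem hcH (four_le htH huH hx)) (H.inv_mem hcH),
        mem_centralizer_of_commute ?_⟩
      rw [← hca]
      refine (show Commute x a from ?_).map (MulAut.conj c).toMonoidHom
      obtain ⟨h1, h2⟩ := commute_of_mem h hx
      rcases mem_four_cases h.ht h.hu h.comm haF with rfl | rfl | rfl | rfl
      exacts [Commute.one_right _, h1, h2, h1.mul_right h2]
    have hmaxW : ∀ K : Subgroup G, IsPGroup 2 K → K ≤ H → Nat.card K ≤ Nat.card WG := by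
      intro K hK hKH
      obtain ⟨Q, hQ⟩ := (hK.comap_of_injective H.subtype H.subtype_injective).exists_le_sylow
      have h1 : K ≤ (Q : Subgroup H).map H.subtype := fun x hx => ⟨⟨x, hKH hx⟩, hQ hx, rfl⟩
      refine (Nat.card_le_card_of_injective _ (inclusion_injective h1)).trans (le_of_eq ?_)
      rw [card_map_of_injective H.subtype_injective, hWG, card_map_of_injective H.subtype_injective,
        Q.card_eq_multiplicity, W.card_eq_multiplicity]
    obtain ⟨Q, hQ⟩ := ((((isPGroup_four h.ht h.hu h.comm).map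
      (MulAut.conj c).toMonoidHom)).comap_of_injective C.subtype C.subtype_injective).exists_le_sylow
    have hTQ : (four t u).map (MulAut.conj c).toMonoidHom ≤ (Q : Subgroup C).map C.subtype :=
      fun x hx => ⟨⟨x, hTC hx⟩, hQ hx, rfl⟩
    set QG : Subgroup G := (Q : Subgroup C).map C.subtype with hQG
    have hQC : QG ≤ C := map_subtype_le _
    have hcard : Nat.card QG = Nat.card WG := by
      refine le_antisymm (hmaxW QG (Q.2.map _) (hQC.trans inf_le_left)) ?_
      obtain ⟨Q', hQ'⟩ := (hWp.comap_of_injective C.subtype C.subtype_injective).exists_le_sylow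
      have h1 : WG ≤ (Q' : Subgroup C).map C.subtype := fun x hx => ⟨⟨x, hWC hx⟩, hQ' hx, rfl⟩
      refine (Nat.card_le_card_of_injective _ (inclusion_injective h1)).trans (le_of_eq ?_)
      rw [card_map_of_injective C.subtype_injective, hQG, card_map_of_injective C.subtype_injective,
        Q.card_eq_multiplicity, Q'.card_eq_multiplicity]
    refine ⟨QG.map (MulAut.conj c⁻¹).toMonoidHom, (Q.2.map _).map _, ?_, ?_, ?_, ?_⟩
    · rintro _ ⟨x, hx, rfl⟩
      exact H.mul_mem (H.mul_mem (H.inv_mem hcH) (hQC hx).1) (H.inv_mem (H.inv_mem hcH))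
    · intro x hx
      refine ⟨c * x * c⁻¹, hTQ (CfsgLib.TwoGroups.conj_mem_map_conj hx), ?_⟩
      show c⁻¹ * (c * x * c⁻¹) * c⁻¹⁻¹ = x
      group
    · rw [CfsgLib.Transfer.card_map_conj, hcard]
    · rintro _ ⟨x, hx, rfl⟩
      have h1 := (commute_of_mem_centralizer (hQC hx).2).map (MulAut.conj c⁻¹).toMonoidHom
      have e : (MulAut.conj c⁻¹).toMonoidHom w = a := by
        show c⁻¹ * w * c⁻¹⁻¹ = a
        rw [← hca]; group
      rwa [e] at h1
  by_cases h4 : Nat.card WG = 4
  · have hW4 : four t u = WG := eq_of_le_of_card_ge hTW (by rw [h4, h.card])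
    have hsF : s ∈ four t u := hW4 ▸ hsW
    have hwF : w ∈ four t u := by
      have hwW : w ∈ WG := by
        have hwt : w ∈ four t u := mem_four_of_commute σ (IsPGroup.of_card (n := 2) h.card) h
          (subset_closure (by simp)) (subset_closure (by simp)) ?_ (hc t (hTW (subset_closure (by simp)))).symm
          (hc u (hTW (subset_closure (by simp)))).symm
        · exact hTW hwt
        · rcases three_involutions σ.inj σ.range σ.pos h.ht h.hu (involution_sq hR.ht) h.ne h.comm
            (hc t (hTW (subset_closure (by simp)))) (hc u (hTW (subset_closure (by simp)))) with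
            rfl | rfl | rfl | rfl
          exacts [one_mem _, subset_closure (by simp), subset_closure (by simp),
            mul_mem (subset_closure (by simp)) (subset_closure (by simp))]
      exact hW4 ▸ hwW
    -- bring the rotation to `(t, u)`
    have key : ∀ {b : G}, b ∈ four t u → Rot t b g → ∃ g' ∈ H, Rot t u g' := by
      intro b hb hRb
      rcases mem_four_cases h.ht h.hu h.comm hb with rfl | rfl | rfl | rfl
      · exact absurd rfl (involution_ne_one hRb.hu)
      · exact absurd rfl hRb.ne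
      · exact ⟨g, hgH, hRb⟩
      · refine ⟨g⁻¹, inv_mem hgH, ?_⟩
        have h3 := rot_rotate (rot_inv hRb)
        rwa [show t * u * t = u by
          rw [h.comm.eq, mul_assoc, involution_sq h.ht, mul_one]] at h3
    have hwsF : w * s ∈ four t u := mul_mem hwF hsF
    rcases mem_four_cases h.ht h.hu h.comm hwF with e | e | e | e
    · exact absurd e (involution_ne_one hR.ht)
    · exact key hsF (e ▸ hR)
    all_goals
      rcases mem_four_cases h.ht h.hu h.comm hsF with e' | e' | e' | e'
    all_goals first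
      | exact absurd e' (involution_ne_one hR.hu)
      | exact key hwsF (e' ▸ rot_rotate hR)
      | exact absurd (e.trans e'.symm) hR.ne
      | (have h3 := rot_rotate (rot_rotate hR)
         have e3 : w * s = t := by
           rw [e, e']
           first
             | exact (Four.mul_mul_self h)
             | (rw [h.comm.eq, ← mul_assoc, involution_sq h.hu, one_mul])
             | (rw [mul_assoc, involution_sq h.hu, mul_one])
         rw [e3] at h3
         exact key (mul_mem hsF (subset_closure (by simp))) h3)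
  · obtain ⟨W₁, hW₁, hW₁H, hT₁, hc₁, hz₁⟩ := hcent (subset_closure (by simp)) (hconj htH hs₁ hg₁ h₁)
    obtain ⟨W₂, hW₂, hW₂H, hT₂, hc₂, hz₂⟩ := hcent (subset_closure (by simp)) (hconj huH hs₂ hg₂ h₂)
    obtain ⟨c₁, hcW₁, h1t, h1u⟩ := exists_swap_of_central σ hW₁ h hT₁ hz₁ (hc₁ ▸ h4)
    have hT₂' : four u t ≤ W₂ :=
      (four_le (subset_closure (by simp)) (subset_closure (by simp))).trans hT₂
    obtain ⟨c₂, hcW₂, h2u, h2t⟩ := exists_swap_of_central σ hW₂ h.swap hT₂' hz₂ (hc₂ ▸ h4)
    refine ⟨c₁ * c₂, mul_mem (hW₁H hcW₁) (hW₂H hcW₂), h.ht, h.hu, h.ne, h.comm, ?_, ?_⟩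
    · calc c₁ * c₂ * t * (c₁ * c₂)⁻¹ = c₁ * (c₂ * t * c₂⁻¹) * c₁⁻¹ := by group
        _ = c₁ * t * c₁⁻¹ * (c₁ * u * c₁⁻¹) := by rw [h2t, h.comm.symm.eq]; group
        _ = u := by rw [h1t, h1u, h.mul_mul_self]
    · calc c₁ * c₂ * u * (c₁ * c₂)⁻¹ = c₁ * (c₂ * u * c₂⁻¹) * c₁⁻¹ := by group
        _ = t * u := by rw [h2u, h1u]

include σ in
/-- A subgroup moved by the three involutions has a centraliser of odd order. -/
theorem no_involution {P : Subgroup G} {t u : G} (h : Four t u)
    (hT : four t u ≤ normalizer (P : Set G)) (h1 : t ∉ centralizer (P : Set G))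
    (h2 : u ∉ centralizer (P : Set G)) (h3 : t * u ∉ centralizer (P : Set G)) :
    ∀ x ∈ centralizer (P : Set G), x * x = 1 → x = 1 := by
  classical
  have : Fact (Nat.Prime 2) := ⟨Nat.prime_two⟩
  set H : Subgroup G := normalizer (P : Set G) with hH
  obtain ⟨S₁, hS₁⟩ := ((isPGroup_four h.ht h.hu h.comm).comap_of_injective H.subtype
    H.subtype_injective : IsPGroup 2 ((four t u).subgroupOf H)).exists_le_sylow
  set W : Subgroup G := (S₁ : Subgroup H).map H.subtype with hW
  have hTW : four t u ≤ W := fun x hx => ⟨⟨x, hT hx⟩, hS₁ hx, rfl⟩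
  have htW : t ∈ W := hTW (subset_closure (by simp))
  have huW : u ∈ W := hTW (subset_closure (by simp))
  have hCW : ∀ w ∈ W, w ∈ centralizer (P : Set G) → w = 1 := by
    intro w hw hwC
    by_contra hw1
    haveI hKn : ((centralizer (P : Set G)).subgroupOf (normalizer (P : Set G))).Normal := inferInstance
    obtain ⟨w', hw', rfl⟩ := hw
    let K' : Subgroup (S₁ : Subgroup H) :=
      ((centralizer (P : Set G)).subgroupOf H).subgroupOf (S₁ : Subgroup H)
    haveI : K'.Normal := Subgroup.Normal.comap hKn _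
    have hK' : K' ≠ ⊥ := fun e => hw1 (by
      have h4 : (⟨w', hw'⟩ : (S₁ : Subgroup H)) ∈ K' := hwC
      rw [e, mem_bot] at h4
      exact congrArg Subtype.val (congrArg Subtype.val h4))
    haveI hne : Nontrivial (K' ⊓ Subgroup.center (S₁ : Subgroup H) : Subgroup _) :=
      (nontrivial_iff_ne_bot _).2 (CfsgLib.PGroups.inf_center_ne_bot S₁.2 hK')
    obtain ⟨k, hk⟩ := exists_prime_orderOf_dvd_card' 2 (G := (K' ⊓ Subgroup.center (S₁ : Subgroup H) : Subgroup _)) (by
      obtain ⟨m, hm⟩ := IsPGroup.iff_card.1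
        (S₁.2.to_subgroup (K' ⊓ Subgroup.center (S₁ : Subgroup H)))
      have h5 := Finite.one_lt_card (α := (K' ⊓ Subgroup.center (S₁ : Subgroup H) : Subgroup _))
      rw [hm] at h5 ⊢
      exact dvd_pow_self 2 (fun e => by simp [e] at h5))
    set z : G := (((k : (S₁ : Subgroup H)) : H) : G) with hz
    have hzo : orderOf z = 2 := by
      rw [hz, Subgroup.orderOf_coe, Subgroup.orderOf_coe, Subgroup.orderOf_coe, hk]
    have hcz : ∀ {w : G}, w ∈ W → Commute w z := by
      rintro _ ⟨b, hb, rfl⟩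
      exact congrArg (fun a : (S₁ : Subgroup H) => ((a : H) : G)) (mem_center_iff.1 k.2.2 ⟨b, hb⟩)
    rcases three_involutions σ.inj σ.range σ.pos h.ht h.hu (involution_sq hzo) h.ne h.comm
      (hcz htW) (hcz huW) with e | e | e | e
    · exact involution_ne_one hzo e
    · exact h1 (e ▸ k.2.1)
    · exact h2 (e ▸ k.2.1)
    · exact h3 (e ▸ k.2.1)
  intro x hx hx2
  by_contra hx1
  have hxH : x ∈ H := mem_normalizer_of_conj fun p hp => by
    rw [← (mem_centralizer_iff.1 hx p hp), mul_inv_cancel_right]; exact hp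
  obtain ⟨c, hc'⟩ := CfsgLib.TwoGroups.exists_conj_le_sylow S₁
    (P := zpowers (⟨x, hxH⟩ : H)) (IsPGroup.of_card (n := 1) (by
      rw [Nat.card_zpowers, pow_one, orderOf_eq_two_of (fun e => hx1 (congrArg Subtype.val e))
        (Subtype.ext hx2)]))
  have h4 := hc' (CfsgLib.TwoGroups.conj_mem_map_conj (mem_zpowers _))
  have h5 : (c : G) * x * (c : G)⁻¹ = 1 := by
    refine hCW _ ⟨_, h4, rfl⟩ (mem_centralizer_iff.2 fun p hp => ?_)
    have h6 : (c : G)⁻¹ * p * c ∈ P := (mem_normalizer_iff''.1 c.2 p).1 hp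
    have h7 := mem_centralizer_iff.1 hx _ h6
    calc p * ((c : G) * x * (c : G)⁻¹) = c * (((c : G)⁻¹ * p * c) * x) * (c : G)⁻¹ := by group
      _ = c * (x * ((c : G)⁻¹ * p * c)) * (c : G)⁻¹ := by rw [h7]
      _ = (c : G) * x * (c : G)⁻¹ * p := by group
  exact hx1 (conj_eq_one_iff.1 h5)

end CfsgLib.GW.Pair
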