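import Cfsg.Agent.Lib.GW.OddPart
import Cfsg.Agent.Lib.PGroups.Basic
import Cfsg.Agent.Lib.TwoGroups.Closed

/-!
# No abelian pair of Sylow subgroups of two commuting centralisers

In a group with dihedral Sylow 2-subgroups and one class of involutions, let `⟨t, u⟩` be a
four-group, `Q` and `Qu` Sylow `r`-subgroups of `C(t)` and `C(u)`, inverted by `u` and `t`
respectively and centralising each other.  Then `Q ⊔ Qu` is not a Sylow `r`-subgroup of `C(Q)`.
-/

set_option autoImplicit false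

namespace CfsgLib.GW.Pair

open Subgroup DihedralGroup
open CfsgLib.TwoGroups CfsgLib.TwoGroups.Dihedral
open CfsgLib.Signalizer (involution_sq involution_inv involution_ne_one orderOf_eq_two_of orderOf_conj)

universe u

variable {n : ℕ}

/-- Two non-conjugate reflections in a non-abelian subgroup of a dihedral `2`-group. -/
theorem model_exists_not_conj (W : Subgroup (DihedralGroup (2 ^ n))) {i : ZMod (2 ^ n)}
    (hi : sr i ∈ W) {a : DihedralGroup (2 ^ n)} (ha : a ∈ W) (hne : a * sr i * a⁻¹ ≠ sr i) :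
    ∃ j, sr j ∈ W ∧ (∀ w ∈ W, w * sr i * w⁻¹ ≠ sr j) ∧ ∃ w ∈ W, w * sr j ≠ sr j * w := by
  classical
  haveI : NeZero (2 ^ n) := ⟨pow_ne_zero _ two_ne_zero⟩
  let A : AddSubgroup (ZMod (2 ^ n)) :=
    { carrier := {k | r k ∈ W}
      zero_mem' := W.one_mem
      add_mem' := fun {x y} hx hy => by
        show r (x + y) ∈ W
        rw [← r_mul_r]; exact mul_mem hx hy
      neg_mem' := fun {x} hx => by
        show r (-x) ∈ W
        rw [← inv_r]; exact inv_mem hx }
  obtain ⟨k₀, hk₀, hk2⟩ : ∃ k ∈ A, k + k ≠ 0 := by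
    rcases a with k | m
    · refine ⟨k, ha, fun e => hne ?_⟩
      rw [inv_r, r_mul_sr, sr_mul_r]
      congr 1
      linear_combination -e
    · refine ⟨m - i, ?_, fun e => hne ?_⟩
      · show r (m - i) ∈ W
        rw [← sr_mul_sr]; exact mul_mem hi ha
      · rw [inv_sr, sr_mul_sr, r_mul_sr]
        congr 1
        linear_combination e
  obtain ⟨d, hd, hd2⟩ : ∃ d ∈ A, ∀ c ∈ A, c + c ≠ d := by
    by_contra hno
    push Not at hno
    have h : ∀ m : ℕ, ∀ x ∈ A, ∃ c ∈ A, (2 ^ m : ℕ) • c = x := by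
      intro m
      induction m with
      | zero => exact fun x hx => ⟨x, hx, by simp⟩
      | succ m ih =>
        intro x hx
        obtain ⟨c, hc, rfl⟩ := hno x hx
        obtain ⟨b, hb, rfl⟩ := ih c hc
        exact ⟨b, hb, by rw [pow_succ, mul_comm, mul_nsmul', two_nsmul]⟩
    obtain ⟨c, -, hc⟩ := h n _ hk₀
    refine hk2 ?_
    rw [← hc, nsmul_eq_mul, ZMod.natCast_self, zero_mul, add_zero]
  refine ⟨i + d, ?_, ?_, r k₀, hk₀, ?_⟩
  · rw [← sr_mul_r]; exact mul_mem hi hd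
  · rintro (k | m) hw e
    · rw [inv_r, r_mul_sr, sr_mul_r, sr.injEq] at e
      exact hd2 (-k) (neg_mem hw) (by linear_combination e)
    · rw [inv_sr, sr_mul_sr, r_mul_sr, sr.injEq] at e
      refine hd2 (m - i) ?_ (by linear_combination e)
      show r (m - i) ∈ W
      rw [← sr_mul_sr]; exact mul_mem hi hw
  · intro e
    rw [r_mul_sr, sr_mul_r, sr.injEq] at e
    exact hk2 (by linear_combination -e)

variable {G : Type u} [Group G] [Finite G]

/-- Two `r`-subgroups of `K` of the largest possible order are conjugate in `K`. -/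
theorem exists_conj_of_max {r : ℕ} [Fact r.Prime] {K A B : Subgroup G} (hA : IsPGroup r A)
    (hAK : A ≤ K) (hB : IsPGroup r B) (hBK : B ≤ K)
    (hmax : ∀ R : Subgroup G, IsPGroup r R → R ≤ K → Nat.card R ≤ Nat.card A)
    (hcard : Nat.card B = Nat.card A) :
    ∃ c ∈ K, A.map (MulAut.conj c).toMonoidHom = B := by
  obtain ⟨P, hP⟩ := (hA.comap_of_injective K.subtype K.subtype_injective).exists_le_sylow
  have hAP : A = (P : Subgroup K).map K.subtype := by
    refine eq_of_le_of_card_ge (fun a ha => ⟨⟨a, hAK ha⟩, hP ha, rfl⟩) ?_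
    exact hmax _ (P.2.map _) (map_subtype_le _)
  obtain ⟨c, hc⟩ := CfsgLib.TwoGroups.exists_conj_le_sylow P
    (hB.comap_of_injective K.subtype K.subtype_injective)
  refine ⟨(c : G)⁻¹, inv_mem c.2, ?_⟩
  refine (eq_of_le_of_card_ge ?_ ?_).symm
  · intro b hb
    have h1 : c * ⟨b, hBK hb⟩ * c⁻¹ ∈ (P : Subgroup K) :=
      hc (CfsgLib.TwoGroups.conj_mem_map_conj (show (⟨b, hBK hb⟩ : K) ∈ B.comap K.subtype from hb))
    have h2 : (c : G) * b * (c : G)⁻¹ ∈ A := by rw [hAP]; exact ⟨_, h1, rfl⟩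
    refine ⟨_, h2, ?_⟩
    show (c : G)⁻¹ * ((c : G) * b * (c : G)⁻¹) * (c : G)⁻¹⁻¹ = b
    group
  · rw [CfsgLib.Transfer.card_map_conj, hcard]

/-- The product of the fixed points of two involutions whose product inverts an abelian group of
odd order covers it. -/
theorem card_le_of_signs {P R R' : Subgroup G} (hodd : Odd (Nat.card P))
    (h : ∀ p ∈ P, ∃ a ∈ R, ∃ b ∈ R', p * p = a * b) :
    Nat.card P ≤ Nat.card R * Nat.card R' := by
  classical
  choose! a ha b hb he using h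
  rw [← Nat.card_prod]
  refine Nat.card_le_card_of_injective (fun p : P => ((⟨a p, ha p p.2⟩ : R), (⟨b p, hb p p.2⟩ : R')))
    fun p q e => ?_
  simp only [Prod.mk.injEq, Subtype.mk.injEq] at e
  have h2 : p ^ 2 = q ^ 2 := Subtype.ext (by
    rw [coe_pow, coe_pow, pow_two, pow_two, he p p.2, he q q.2, e.1, e.2])
  exact (powCoprime (Nat.coprime_two_right.2 hodd)).injective h2

/-- An element shifting a finite subgroup by elements it centralises acts with order dividing the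
order of that subgroup. -/
theorem pow_card_commute {P R : Subgroup G} {z : G} (hRP : R ≤ P)
    (hR : ∀ c ∈ R, z * c * z⁻¹ = c) (h : ∀ p ∈ P, p⁻¹ * (z * p * z⁻¹) ∈ R) :
    z ^ Nat.card P ∈ centralizer (P : Set G) := by
  refine mem_centralizer_iff.2 fun p hp => ?_
  set c : G := p⁻¹ * (z * p * z⁻¹) with hc
  have hk : ∀ k : ℕ, z ^ k * p * (z ^ k)⁻¹ = p * c ^ k := by
    intro k
    induction k with
    | zero => simp
    | succ k ih =>
      have hck : z * c ^ k * z⁻¹ = c ^ k := hR _ (pow_mem (h p hp) k)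
      calc z ^ (k + 1) * p * (z ^ (k + 1))⁻¹
          = z * (z ^ k * p * (z ^ k)⁻¹) * z⁻¹ := by rw [pow_succ']; group
        _ = z * p * z⁻¹ * (z * c ^ k * z⁻¹) := by rw [ih]; group
        _ = p * c ^ (k + 1) := by
          rw [hck, pow_succ', ← mul_assoc p c, show p * c = z * p * z⁻¹ by rw [hc]; group]
  have h1 : c ^ Nat.card P = 1 := by
    have h2 := pow_card_eq_one' (G := P) (x := ⟨c, hRP (h p hp)⟩)
    exact congrArg Subtype.val h2
  have h3 := hk (Nat.card P)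
  rw [h1, mul_one] at h3
  exact ((mul_inv_eq_iff_eq_mul).1 h3).symm

/-- An involution inverting an abelian group modulo fixed points, and a second one: their product
shifts by fixed points of both. -/
theorem prod_shift {P R : Subgroup G} {s s' : G} (hs : orderOf s = 2) (hs' : orderOf s' = 2)
    (hRs : ∀ c ∈ R, s * c * s⁻¹ = c) (hRs' : ∀ c ∈ R, s' * c * s'⁻¹ = c)
    (hcomm : ∀ p ∈ P, ∀ q ∈ P, Commute p q) (hsP : ∀ p ∈ P, s * p * s⁻¹ ∈ P)
    (hRP : R ≤ P)
    (h : ∀ p ∈ P, p * (s * p * s⁻¹) ∈ R) (h' : ∀ p ∈ P, p * (s' * p * s'⁻¹) ∈ R) :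
    ∀ p ∈ P, p⁻¹ * (s' * s * p * (s' * s)⁻¹) ∈ R := by
  intro p hp
  set q : G := s * p * s⁻¹ with hq
  have hqP : q ∈ P := hsP p hp
  have h1 := h p hp
  have h2 := h' q hqP
  have h3 : p⁻¹ * (s' * s * p * (s' * s)⁻¹) = (q * (s' * q * s'⁻¹)) * (p * q)⁻¹ := by
    have h4 : s' * q * s'⁻¹ ∈ P := by
      have := mul_mem (inv_mem hqP) (hRP h2)
      rwa [← mul_assoc, inv_mul_cancel, one_mul] at this
    rw [show s' * s * p * (s' * s)⁻¹ = s' * q * s'⁻¹ by rw [hq]; group, (hcomm _ hqP _ h4).eq,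
      mul_inv_rev,
      show s' * q * s'⁻¹ * q * (q⁻¹ * p⁻¹) = (s' * q * s'⁻¹) * p⁻¹ by group]
    exact ((hcomm _ hp _ h4).inv_left).eq
  rw [h3]
  exact mul_mem h2 (inv_mem h1)

variable {S : Sylow 2 G} {f : DihedralGroup (2 ^ n) →* G}

/-- There is no such pair. -/
theorem no_pair (hf : Function.Injective f) (hS : f.range = (S : Subgroup G)) (hn : 1 ≤ n)
    (hone : ∀ a b : G, orderOf a = 2 → orderOf b = 2 → IsConj a b)
    {t u : G} (ht : orderOf t = 2) (hu : orderOf u = 2) (hne : t ≠ u) (hc : Commute t u)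
    {r : ℕ} [Fact r.Prime] (hr : r ≠ 2) {Q Qu : Subgroup G}
    (hQ : IsPGroup r Q) (hQu : IsPGroup r Qu) (hQ1 : Q ≠ ⊥)
    (hQt : ∀ x ∈ Q, t * x * t⁻¹ = x) (hQinv : ∀ x ∈ Q, u * x * u⁻¹ = x⁻¹)
    (hQuu : ∀ x ∈ Qu, u * x * u⁻¹ = x) (hQuinv : ∀ x ∈ Qu, t * x * t⁻¹ = x⁻¹)
    (hcomm : ∀ x ∈ Q, ∀ y ∈ Qu, Commute x y) (hcard : Nat.card Qu = Nat.card Q)
    (hmax : ∀ R : Subgroup G, IsPGroup r R → R ≤ centralizer ({t} : Set G) →
      Nat.card R ≤ Nat.card Q)
    (hsyl : ∀ R : Subgroup G, IsPGroup r R → R ≤ centralizer (Q : Set G) →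
      Nat.card R ≤ Nat.card (Q ⊔ Qu : Subgroup G)) : False := by
  classical
  have : Fact (Nat.Prime 2) := ⟨Nat.prime_two⟩
  set P : Subgroup G := Q ⊔ Qu with hP
  set v : G := t * u with hv
  have hQP : Q ≤ P := le_sup_left
  have hQuP : Qu ≤ P := le_sup_right
  -- the group `P`
  have hQc : ∀ x ∈ Q, ∀ y ∈ Q, Commute x y :=
    fun x hx y hy => CfsgLib.PGroups.BSW.commute_of_inverted Q hQinv hx hy
  have hQuc : ∀ x ∈ Qu, ∀ y ∈ Qu, Commute x y :=
    fun x hx y hy => CfsgLib.PGroups.BSW.commute_of_inverted Qu hQuinv hx hy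
  have hPmem : ∀ p ∈ P, ∃ x ∈ Q, ∃ y ∈ Qu, p = x * y := by
    intro p hp
    rw [hP, sup_eq_closure] at hp
    induction hp using closure_induction with
    | mem z hz =>
      rcases hz with hz | hz
      · exact ⟨z, hz, 1, one_mem _, (mul_one z).symm⟩
      · exact ⟨1, one_mem _, z, hz, (one_mul z).symm⟩
    | one => exact ⟨1, one_mem _, 1, one_mem _, (one_mul 1).symm⟩
    | mul a b _ _ iha ihb =>
      obtain ⟨x, hx, y, hy, rfl⟩ := iha
      obtain ⟨x', hx', y', hy', rfl⟩ := ihb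
      exact ⟨x * x', mul_mem hx hx', y * y', mul_mem hy hy',
        (hcomm x' hx' y hy).symm.mul_mul_mul_comm _ _⟩
    | inv a _ iha =>
      obtain ⟨x, hx, y, hy, rfl⟩ := iha
      exact ⟨x⁻¹, inv_mem hx, y⁻¹, inv_mem hy, by
        rw [mul_inv_rev]; exact (hcomm x hx y hy).inv_inv.eq.symm⟩
  have hPc : ∀ p ∈ P, ∀ q ∈ P, Commute p q := by
    intro p hp q hq
    obtain ⟨x, hx, y, hy, rfl⟩ := hPmem p hp
    obtain ⟨x', hx', y', hy', rfl⟩ := hPmem q hq
    exact ((hQc x hx x' hx').mul_right (hcomm x hx y' hy')).mul_left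
      (((hcomm x' hx' y hy).symm).mul_right (hQuc y hy y' hy'))
  have hcoprQ : Odd (Nat.card Q) := Setting.odd_of_pGroup hr hQ
  have hdisj : Disjoint Q Qu := by
    rw [disjoint_def]
    intro x hx hx'
    refine eq_one_of_inv_self (odd_orderOf_of_mem hcoprQ hx) ?_
    rw [← hQuinv x hx']; exact hQt x hx
  have hcardP : Nat.card P = Nat.card Q * Nat.card Qu := by
    rw [← Nat.card_prod]
    refine (Nat.card_eq_of_bijective (fun z : Q × Qu => (⟨(z.1 : G) * z.2,
      mul_mem (hQP z.1.2) (hQuP z.2.2)⟩ : P)) ⟨fun z w e => ?_, fun p => ?_⟩).symm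
    · exact mul_injective_of_disjoint hdisj (congrArg Subtype.val e)
    · obtain ⟨x, hx, y, hy, e⟩ := hPmem p p.2
      exact ⟨(⟨x, hx⟩, ⟨y, hy⟩), Subtype.ext e.symm⟩
  have hPodd : Odd (Nat.card P) := by
    rw [hcardP]; exact hcoprQ.mul (Setting.odd_of_pGroup hr hQu)
  have hPp : IsPGroup r P := by
    obtain ⟨a, ha⟩ := IsPGroup.iff_card.1 hQ
    exact IsPGroup.of_card (n := a + a) (by rw [hcardP, hcard, ha, pow_add])
  have hvinv : ∀ p ∈ P, v * p * v⁻¹ = p⁻¹ := by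
    intro p hp
    obtain ⟨x, hx, y, hy, rfl⟩ := hPmem p hp
    rw [show v * (x * y) * v⁻¹ = t * (u * x * u⁻¹) * t⁻¹ * (t * (u * y * u⁻¹) * t⁻¹) by
      rw [hv]; group, hQinv x hx, hQuu y hy, hQt _ (inv_mem hx), hQuinv y hy, mul_inv_rev]
    exact (hcomm x hx y hy).inv_inv.eq
  have htP : ∀ p ∈ P, t * p * t⁻¹ ∈ P := by
    intro p hp
    obtain ⟨x, hx, y, hy, rfl⟩ := hPmem p hp
    rw [show t * (x * y) * t⁻¹ = t * x * t⁻¹ * (t * y * t⁻¹) by group, hQt x hx, hQuinv y hy]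
    exact mul_mem (hQP hx) (inv_mem (hQuP hy))
  have hQt2 : ∀ p ∈ P, p * (t * p * t⁻¹) ∈ Q := by
    intro p hp
    obtain ⟨x, hx, y, hy, rfl⟩ := hPmem p hp
    rw [show t * (x * y) * t⁻¹ = t * x * t⁻¹ * (t * y * t⁻¹) by group, hQt x hx, hQuinv y hy,
      (hcomm x hx y hy).symm.mul_mul_mul_comm, mul_inv_cancel, mul_one]
    exact mul_mem hx hx
  have htH : t ∈ normalizer (P : Set G) := mem_normalizer_of_conj htP
  have huH : u ∈ normalizer (P : Set G) := mem_normalizer_of_conj fun p hp => by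
    obtain ⟨x, hx, y, hy, rfl⟩ := hPmem p hp
    rw [show u * (x * y) * u⁻¹ = u * x * u⁻¹ * (u * y * u⁻¹) by group, hQinv x hx, hQuu y hy]
    exact mul_mem (inv_mem (hQP hx)) (hQuP hy)
  set H : Subgroup G := normalizer (P : Set G) with hH
  have hTH : four t u ≤ H := four_le htH huH
  have hv2 : orderOf v = 2 := by
    refine orderOf_eq_two_of (fun e => hne ?_) ?_
    · rw [hv, mul_eq_one_iff_eq_inv, involution_inv hu] at e
      exact e
    · rw [← pow_two, hv, hc.mul_pow, pow_two, pow_two, involution_sq ht, involution_sq hu, mul_one]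
  obtain ⟨x₁, hx₁, hx₁1⟩ := Q.bot_or_exists_ne_one.resolve_left hQ1
  obtain ⟨y₁, hy₁, hy₁1⟩ := Qu.bot_or_exists_ne_one.resolve_left (fun e => hQ1 (by
    rw [← card_eq_one, ← hcard, e, card_bot]))
  have hTC : ∀ w, (w = t ∨ w = u ∨ w = v) → w ∉ centralizer (P : Set G) := by
    intro w hw hwC
    have key : ∀ z ∈ P, w * z * w⁻¹ = z⁻¹ → z = 1 := fun z hz e => by
      refine eq_one_of_inv_self (odd_orderOf_of_mem hPodd hz) ?_
      rw [← e, ← (mem_centralizer_iff.1 hwC z hz), mul_inv_cancel_right]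
    rcases hw with rfl | rfl | rfl
    · exact hy₁1 (key y₁ (hQuP hy₁) (hQuinv y₁ hy₁))
    · exact hx₁1 (key x₁ (hQP hx₁) (hQinv x₁ hx₁))
    · exact hx₁1 (key x₁ (hQP hx₁) (hvinv x₁ (hQP hx₁)))
  -- a Sylow 2-subgroup of `H`
  obtain ⟨S₁, hS₁⟩ := ((isPGroup_four ht hu hc).comap_of_injective H.subtype H.subtype_injective :
    IsPGroup 2 ((four t u).subgroupOf H)).exists_le_sylow
  set W : Subgroup G := (S₁ : Subgroup H).map H.subtype with hW
  have hWp : IsPGroup 2 W := S₁.2.map _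
  have hWH : W ≤ H := map_subtype_le _
  have htW : t ∈ W := ⟨⟨t, htH⟩, hS₁ (subset_closure (by simp) : t ∈ four t u), rfl⟩
  have huW : u ∈ W := ⟨⟨u, huH⟩, hS₁ (subset_closure (by simp) : u ∈ four t u), rfl⟩
  have hvW : v ∈ W := mul_mem htW huW
  have hCW : ∀ w ∈ W, w ∈ centralizer (P : Set G) → w = 1 := by
    intro w hw hwC
    by_contra hw1
    haveI hKn : ((centralizer (P : Set G)).subgroupOf (normalizer (P : Set G))).Normal := inferInstance
    obtain ⟨w', hw', rfl⟩ := hw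
    let K' : Subgroup (S₁ : Subgroup H) :=
      ((centralizer (P : Set G)).subgroupOf H).subgroupOf (S₁ : Subgroup H)
    haveI : K'.Normal := Subgroup.Normal.comap hKn _
    have hK' : K' ≠ ⊥ := fun e => hw1 (by
      have h1 : (⟨w', hw'⟩ : (S₁ : Subgroup H)) ∈ K' := hwC
      rw [e, mem_bot] at h1
      exact congrArg Subtype.val (congrArg Subtype.val h1))
    obtain ⟨k, hk, hk1⟩ := (bot_or_exists_ne_one _).resolve_left
      (CfsgLib.PGroups.inf_center_ne_bot S₁.2 hK')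
    obtain ⟨m, hm⟩ := S₁.2 k
    -- an involution among the powers of `k`
    obtain ⟨j, hj, hjmin⟩ : ∃ j, k ^ 2 ^ j ≠ 1 ∧ k ^ 2 ^ (j + 1) = 1 := by
      classical
      have hex : ∃ j, k ^ 2 ^ j = 1 := ⟨m, hm⟩
      rcases hj0 : Nat.find hex with _ | j
      · exact absurd (by simpa [hj0] using Nat.find_spec hex) hk1
      · exact ⟨j, Nat.find_min hex (by omega), by simpa [hj0] using Nat.find_spec hex⟩
    set z : (S₁ : Subgroup H) := k ^ 2 ^ j with hz
    have hzK : z ∈ K' ⊓ Subgroup.center _ := pow_mem hk _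
    have hz2 : z * z = 1 := by rw [hz, ← pow_add, ← two_mul, ← pow_succ', hjmin]
    set zG : G := ((z : H) : G) with hzG
    have hcz : ∀ {w : G}, (hw : w ∈ W) → Commute w zG := by
      rintro _ ⟨b, hb, rfl⟩
      have h1 := mem_center_iff.1 hzK.2 ⟨b, hb⟩
      exact congrArg (fun a : (S₁ : Subgroup H) => ((a : H) : G)) h1
    have hzG2 : zG * zG = 1 := congrArg (fun a : (S₁ : Subgroup H) => ((a : H) : G)) hz2
    have hzG1 : zG ≠ 1 := fun e => hj (Subtype.ext (Subtype.ext e))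
    rcases three_involutions hf hS hn ht hu hzG2 hne hc (hcz htW) (hcz huW) with e | e | e | e
    · exact hzG1 e
    all_goals exact hTC zG (by simp [e, hv]) hzK.1
  have hCodd : ∀ x ∈ centralizer (P : Set G), x * x = 1 → x = 1 := by
    intro x hx hx2
    by_contra hx1
    have hxH : x ∈ H := mem_normalizer_of_conj fun p hp => by
      rw [← (mem_centralizer_iff.1 hx p hp), mul_inv_cancel_right]; exact hp
    obtain ⟨c, hc'⟩ := CfsgLib.TwoGroups.exists_conj_le_sylow S₁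
      (P := zpowers (⟨x, hxH⟩ : H)) (IsPGroup.of_card (n := 1) (by
        rw [Nat.card_zpowers, pow_one, orderOf_eq_two_of (fun e => hx1 (congrArg Subtype.val e))
          (Subtype.ext hx2)]))
    have h1 := hc' (CfsgLib.TwoGroups.conj_mem_map_conj (mem_zpowers _))
    have h2 : (c : G) * x * (c : G)⁻¹ = 1 := by
      refine hCW _ ⟨_, h1, rfl⟩ (mem_centralizer_iff.2 fun p hp => ?_)
      have h3 : (c : G)⁻¹ * p * c ∈ P := (mem_normalizer_iff''.1 c.2 p).1 hp
      have h4 := mem_centralizer_iff.1 hx _ h3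
      calc p * ((c : G) * x * (c : G)⁻¹) = c * (((c : G)⁻¹ * p * c) * x) * (c : G)⁻¹ := by group
        _ = c * (x * ((c : G)⁻¹ * p * c)) * (c : G)⁻¹ := by rw [h4]
        _ = (c : G) * x * (c : G)⁻¹ * p := by group
    exact hx1 (conj_eq_one_iff.1 h2)
  -- `v` is central in `W`
  have hvc : ∀ w ∈ W, Commute w v := by
    intro w hw
    refine mul_inv_eq_one.1 (hCW (w * v * (v * w)⁻¹)
      (mul_mem (mul_mem hw hvW) (inv_mem (mul_mem hvW hw))) (mem_centralizer_iff.2 fun p hp => ?_))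
    have h1 : ∀ q ∈ P, (w * v) * q * (w * v)⁻¹ = (v * w) * q * (v * w)⁻¹ := by
      intro q hq
      have hwq : w * q * w⁻¹ ∈ P := (mem_normalizer_iff.1 (hWH hw) q).1 hq
      rw [show w * v * q * (w * v)⁻¹ = w * (v * q * v⁻¹) * w⁻¹ by group, hvinv q hq,
        show v * w * q * (v * w)⁻¹ = v * (w * q * w⁻¹) * v⁻¹ by group, hvinv _ hwq]
      group
    have hq : (v * w)⁻¹ * p * (v * w) ∈ P :=
      (mem_normalizer_iff''.1 (mul_mem (hWH hvW) (hWH hw)) p).1 hp
    have h2 := h1 _ hq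
    rw [show (v * w) * ((v * w)⁻¹ * p * (v * w)) * (v * w)⁻¹ = p by group] at h2
    nth_rewrite 1 [← h2]
    group
  -- no rotation
  have hcompl : Cfsg.HasNormalPComplement 2 H := by
    by_contra hno
    obtain ⟨a, b, g, ha, hb, hg, hR⟩ := exists_rot hf hS hn H hno
    obtain ⟨c, hc'⟩ := CfsgLib.TwoGroups.exists_conj_le_sylow S₁
      ((isPGroup_four hR.ht hR.hu hR.comm).comap_of_injective H.subtype H.subtype_injective)
    have hcm : ∀ w, (hw : w ∈ H) → w ∈ four a b → Commute ((c : G)⁻¹ * v * c) w := by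
      intro w hw hwF
      have h1 := hc' (CfsgLib.TwoGroups.conj_mem_map_conj
        (show (⟨w, hw⟩ : H) ∈ (four a b).subgroupOf H from hwF))
      have h2 := (hvc _ ⟨_, h1, rfl⟩).symm.map (MulAut.conj (c : G)⁻¹).toMonoidHom
      have h3 : (MulAut.conj (c : G)⁻¹).toMonoidHom ((c : G) * w * (c : G)⁻¹) = w := by
        show (c : G)⁻¹ * ((c : G) * w * (c : G)⁻¹) * (c : G)⁻¹⁻¹ = w
        group
      have h4 : (MulAut.conj (c : G)⁻¹).toMonoidHom v = (c : G)⁻¹ * v * c := by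
        show (c : G)⁻¹ * v * (c : G)⁻¹⁻¹ = (c : G)⁻¹ * v * c
        rw [inv_inv]
      rw [← h4]
      simpa only [Subgroup.coe_subtype, Subgroup.coe_mul, Subgroup.coe_inv, h3] using h2
    set v' : G := (c : G)⁻¹ * v * c with hv'
    have hinvP : ∀ {k}, k ∈ H → ∀ {w : G}, (∀ p ∈ P, w * p * w⁻¹ = p⁻¹) →
        ∀ p ∈ P, (k * w * k⁻¹) * p * (k * w * k⁻¹)⁻¹ = p⁻¹ := by
      intro k hk w hw p hp
      have h3 : k⁻¹ * p * k ∈ P := (mem_normalizer_iff''.1 hk p).1 hp
      calc (k * w * k⁻¹) * p * (k * w * k⁻¹)⁻¹ = k * (w * (k⁻¹ * p * k) * w⁻¹) * k⁻¹ := by group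
        _ = k * (k⁻¹ * p * k)⁻¹ * k⁻¹ := by rw [hw _ h3]
        _ = p⁻¹ := by group
    have hv'inv : ∀ p ∈ P, v' * p * v'⁻¹ = p⁻¹ := by
      have := hinvP (inv_mem c.2) hvinv
      simpa [hv'] using this
    have hv'o : orderOf v' = 2 := by
      have := orderOf_conj (c : G)⁻¹ v
      rw [inv_inv] at this
      rw [hv', this, hv2]
    have haF : a ∈ four a b := subset_closure (by simp)
    have hbF : b ∈ four a b := subset_closure (by simp)
    have hmem : v' = a ∨ v' = b ∨ v' = a * b :=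
      (three_involutions hf hS hn hR.ht hR.hu (involution_sq hv'o) hR.ne hR.comm
        (hcm a ha haF).symm (hcm b hb hbF).symm).resolve_left (involution_ne_one hv'o)
    -- its image under `g` also inverts `P`
    set w' : G := g * v' * g⁻¹ with hw'
    have hgab : g * (a * b) * g⁻¹ = a := by
      rw [show g * (a * b) * g⁻¹ = g * a * g⁻¹ * (g * b * g⁻¹) by group, hR.conj1, hR.conj2,
        ← mul_assoc, ← hR.comm.eq, mul_assoc, involution_sq hR.hu, mul_one]
    have hab1 : a * b ≠ a := fun e => involution_ne_one hR.hu (mul_eq_left.1 e)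
    have hab2 : a * b ≠ b := fun e => involution_ne_one hR.ht (mul_eq_right.1 e)
    have hw'v : w' ≠ v' ∧ Commute v' w' := by
      rcases hmem with e | e | e <;> rw [hw', e]
      · rw [hR.conj1]; exact ⟨hR.ne.symm, hR.comm⟩
      · rw [hR.conj2]; exact ⟨hab2, hR.comm.symm.mul_right (Commute.refl b)⟩
      · rw [hgab]; exact ⟨hab1.symm, ((Commute.refl a).mul_right hR.comm).symm⟩
    have hw'o : w' * w' = 1 := involution_sq (by rw [hw', orderOf_conj]; exact hv'o)
    have h1 : v' * w' ∈ centralizer (P : Set G) := mem_centralizer_iff.2 fun p hp => by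
      have h2 : (v' * w') * p * (v' * w')⁻¹ = p := by
        rw [show (v' * w') * p * (v' * w')⁻¹ = v' * (w' * p * w'⁻¹) * v'⁻¹ by group,
          hinvP hg hv'inv p hp, hv'inv _ (inv_mem hp), inv_inv]
      nth_rewrite 1 [← h2]
      group
    have h5 := hCodd _ h1 (by
      rw [← pow_two, hw'v.2.mul_pow, pow_two, pow_two, involution_sq hv'o, hw'o, one_mul])
    refine hw'v.1 (mul_left_cancel (a := v') ?_)
    rw [h5, involution_sq hv'o]
  -- the quotient map onto a 2-group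
  set N : Subgroup H := Cfsg.pResidual 2 H with hN
  have hNmem : ∀ x : H, x ∈ N ↔ Odd (orderOf x) := fun x => by
    rw [hN, CfsgLib.Transfer.mem_pResidual_iff_coprime hcompl, Nat.coprime_two_right]
  have hsurj : ∀ x : H, ∃ w ∈ (S₁ : Subgroup H), w⁻¹ * x ∈ N := by
    intro x
    have hq : IsPGroup 2 (H ⧸ N) := CfsgLib.Transfer.isPGroup_quotient_pResidual
    have h1 := Sylow.mapSurjective (QuotientGroup.mk'_surjective N) S₁
    have h2 : ((S₁ : Subgroup H).map (QuotientGroup.mk' N)) = ⊤ := by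
      have := (S₁.mapSurjective (QuotientGroup.mk'_surjective N)).3
        (Q := ⊤) (hq.to_subgroup ⊤) le_top
      rw [Sylow.coe_mapSurjective] at this
      exact this.symm
    obtain ⟨w, hw, e⟩ := (h2 ▸ mem_top (QuotientGroup.mk' N x) :
      QuotientGroup.mk' N x ∈ (S₁ : Subgroup H).map (QuotientGroup.mk' N))
    exact ⟨w, hw, QuotientGroup.eq.1 e⟩
  have hinjW : ∀ x y : H, x ∈ (S₁ : Subgroup H) → y ∈ (S₁ : Subgroup H) → x⁻¹ * y ∈ N → x = y := by
    intro x y hx hy h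
    refine inv_mul_eq_one.1 (orderOf_eq_one_iff.1 ?_)
    obtain ⟨k, hk⟩ := S₁.2 ⟨x⁻¹ * y, mul_mem (inv_mem hx) hy⟩
    refine Nat.eq_one_of_dvd_coprimes ((Nat.coprime_two_left.2 ((hNmem _).1 h)).pow_left k) ?_ dvd_rfl
    exact orderOf_dvd_of_pow_eq_one (congrArg Subtype.val hk)
  -- the involution `s`
  obtain ⟨s, hsW, hs2, hsv, hsconj⟩ : ∃ s ∈ W, orderOf s = 2 ∧ s ≠ v ∧
      ∀ w ∈ W, w * t * w⁻¹ ≠ s := by
    by_cases hconj : ∃ a ∈ W, a * t * a⁻¹ = u
    · obtain ⟨a, ha, hat⟩ := hconj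
      obtain ⟨x, hx⟩ := exists_pull hS hWp
      set W' : Subgroup (DihedralGroup (2 ^ n)) :=
        (W.map (MulAut.conj x).toMonoidHom).comap f with hW'
      have hpull : ∀ w ∈ W, ∃ p ∈ W', f p = x * w * x⁻¹ := fun w hw => by
        obtain ⟨p, hp⟩ := hx w hw
        exact ⟨p, by rw [hW', mem_comap, hp]; exact CfsgLib.TwoGroups.conj_mem_map_conj hw, hp⟩
      have hpush : ∀ p ∈ W', ∃ w ∈ W, f p = x * w * x⁻¹ := by
        rintro p ⟨w, hw, e⟩
        exact ⟨w, hw, e.symm⟩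
      obtain ⟨t', ht', hft⟩ := hpull t htW
      obtain ⟨a', ha', hfa⟩ := hpull a ha
      have hne' : a' * t' * a'⁻¹ ≠ t' := fun e => hne (by
        have h1 := congrArg f e
        rw [map_mul, map_mul, map_inv, hfa, hft,
          show x * a * x⁻¹ * (x * t * x⁻¹) * (x * a * x⁻¹)⁻¹ = x * (a * t * a⁻¹) * x⁻¹ by group,
          hat] at h1
        exact (mul_left_cancel (mul_right_cancel h1)).symm)
      obtain ⟨i, rfl⟩ : ∃ i, t' = sr i := by
        rcases t' with k | i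
        · exfalso
          have h2 : (DihedralGroup.r k : DihedralGroup (2 ^ n)) * DihedralGroup.r k = 1 := hf (by
            rw [map_mul, map_one, hft, show x * t * x⁻¹ * (x * t * x⁻¹) = x * (t * t) * x⁻¹ by group,
              involution_sq ht, mul_one, mul_inv_cancel])
          refine hne' ?_
          rcases sq_eq_one_r hn h2 with e | e
          · rw [e]; group
          · rw [e]
            rcases a' with k' | k'
            · rw [inv_r, r_mul_r, r_mul_r]; congr 1; ring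
            · rw [inv_sr, sr_mul_r, sr_mul_sr]; congr 1
              linear_combination -half_add_half hn
        · exact ⟨i, rfl⟩
      obtain ⟨j, hj, hjc, w₀, hw₀, hjnc⟩ := model_exists_not_conj W' ht' ha' hne'
      obtain ⟨s, hsW, hfs⟩ := hpush _ hj
      refine ⟨s, hsW, ?_, fun e => hjnc ?_, fun w hw e => ?_⟩
      · rw [← orderOf_conj x s, ← hfs, orderOf_injective f hf, orderOf_sr]
      · obtain ⟨w, hw, hfw⟩ := hpush _ hw₀
        refine hf ?_
        rw [map_mul, map_mul, hfw, hfs, e]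
        exact ((hvc w hw).map (MulAut.conj x).toMonoidHom).eq
      · obtain ⟨p, hp, hfp⟩ := hpull w hw
        refine hjc p hp (hf ?_)
        rw [map_mul, map_mul, map_inv, hfp, hft, hfs, ← e]
        group
    · refine ⟨u, huW, hu, fun e => involution_ne_one ht ?_, fun w hw e => hconj ⟨w, hw, e⟩⟩
      exact mul_eq_right.1 e.symm
  -- fixed points of `s` and `s * v`
  set R : Subgroup G := P ⊓ centralizer ({s} : Set G) with hR
  set R' : Subgroup G := P ⊓ centralizer ({s * v} : Set G) with hR'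
  have hsP : ∀ p ∈ P, s * p * s⁻¹ ∈ P := fun p hp => (mem_normalizer_iff.1 (hWH hsW) p).1 hp
  have hsi : s⁻¹ = s := involution_inv hs2
  have hRs : ∀ p ∈ P, p * (s * p * s⁻¹) ∈ R := fun p hp => by
    refine ⟨mul_mem hp (hsP p hp), mem_centralizer_of_commute (commute_of_conj_eq ?_).symm⟩
    rw [show s * (p * (s * p * s⁻¹)) * s⁻¹ = s * p * s⁻¹ * ((s * s) * p * (s * s)⁻¹) by group,
      involution_sq hs2, one_mul, inv_one, mul_one]
    exact (hPc _ (hsP p hp) _ hp).eq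
  have hsvo : orderOf (s * v) = 2 := by
    refine orderOf_eq_two_of (fun e => hsv ?_) ?_
    · rw [mul_eq_one_iff_eq_inv, involution_inv hv2] at e
      exact e
    · rw [← pow_two, (hvc s hsW).mul_pow, pow_two, pow_two, involution_sq hs2, involution_sq hv2,
        one_mul]
  have hle : Nat.card P ≤ Nat.card R * Nat.card R' := by
    refine card_le_of_signs hPodd fun p hp =>
      ⟨p * (s * p * s⁻¹), hRs p hp, p * (s * p * s⁻¹)⁻¹, mem_inf.2 ⟨P.mul_mem hp (P.inv_mem (hsP p hp)),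
        mem_centralizer_of_commute (commute_of_conj_eq ?_).symm⟩, ?_⟩
    · set q : G := s * p * s⁻¹ with hq
      have hsq : s * q * s⁻¹ = p := by
        rw [hq, show s * (s * p * s⁻¹) * s⁻¹ = (s * s) * p * (s * s)⁻¹ by group,
          involution_sq hs2, one_mul, inv_one, mul_one]
      rw [show s * v * (p * q⁻¹) * (s * v)⁻¹ = s * (v * (p * q⁻¹) * v⁻¹) * s⁻¹ by group,
        hvinv _ (mul_mem hp (inv_mem (hsP p hp))), mul_inv_rev, inv_inv,
        show s * (q * p⁻¹) * s⁻¹ = s * q * s⁻¹ * (s * p * s⁻¹)⁻¹ by group, hsq, ← hq]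
    · rw [← mul_assoc, (hPc _ (mul_mem hp (hsP p hp)) _ hp).eq]
      group
  have hmax' : ∀ {w : G}, orderOf w = 2 → ∀ K : Subgroup G, IsPGroup r K →
      K ≤ centralizer ({w} : Set G) → Nat.card K ≤ Nat.card Q := by
    intro w hw K hK hKw
    obtain ⟨c, hc'⟩ := isConj_iff.1 (hone w t hw ht)
    rw [← CfsgLib.Transfer.card_map_conj c K]
    refine hmax _ (hK.map _) ?_
    rintro _ ⟨k, hk, rfl⟩
    refine mem_centralizer_of_commute ?_
    rw [← hc']
    exact (commute_of_mem_centralizer (hKw hk)).map (MulAut.conj c).toMonoidHom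
  have hRc : Nat.card R = Nat.card Q := by
    have h1 := hmax' hs2 R (hPp.to_le inf_le_left) inf_le_right
    have h2 := hmax' hsvo R' (hPp.to_le inf_le_left) inf_le_right
    rw [hcardP, hcard] at hle
    by_contra hne'
    have h3 : Nat.card R * Nat.card R' < Nat.card Q * Nat.card Q :=
      lt_of_lt_of_le (Nat.mul_lt_mul_of_pos_right (lt_of_le_of_ne h1 hne') Nat.card_pos)
        (Nat.mul_le_mul_left _ h2)
    omega
  -- a conjugate of `Q` is `R`
  obtain ⟨g₀, hg₀⟩ := isConj_iff.1 (hone t s ht hs2)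
  set Q₁ : Subgroup G := Q.map (MulAut.conj g₀).toMonoidHom with hQ₁
  have hQ₁s : Q₁ ≤ centralizer ({s} : Set G) := by
    rintro _ ⟨q, hq, rfl⟩
    refine mem_centralizer_of_commute ?_
    rw [← hg₀]
    exact (commute_of_conj_eq (hQt q hq)).symm.map (MulAut.conj g₀).toMonoidHom
  obtain ⟨c₁, hc₁, hc₁Q⟩ := exists_conj_of_max (hQ.map _) hQ₁s (hPp.to_le inf_le_left) inf_le_right
    (fun K hK hKs => by
      rw [CfsgLib.Transfer.card_map_conj]; exact hmax' hs2 K hK hKs)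
    (show Nat.card R = Nat.card Q₁ by rw [hQ₁, CfsgLib.Transfer.card_map_conj, hRc])
  set g₁ : G := c₁ * g₀ with hg₁
  have hg₁Q : Q.map (MulAut.conj g₁).toMonoidHom = R := by
    rw [hg₁, CfsgLib.TwoGroups.map_conj_mul, ← hQ₁, hc₁Q]
  have hPR : P ≤ centralizer (R : Set G) := fun p hp => mem_centralizer_iff.2 fun x hx =>
    (hPc x hx.1 p hp).eq
  have hg₁P : P.map (MulAut.conj g₁).toMonoidHom ≤ centralizer (R : Set G) := by
    rintro _ ⟨p, hp, rfl⟩
    refine mem_centralizer_iff.2 fun x hx => ?_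
    rw [← hg₁Q] at hx
    obtain ⟨q, hq, rfl⟩ := hx
    exact ((hPc q (hQP hq) p hp).map (MulAut.conj g₁).toMonoidHom).eq
  obtain ⟨c₂, hc₂, hc₂P⟩ := exists_conj_of_max (hPp.map _) hg₁P hPp hPR
    (fun K hK hKR => by
      rw [CfsgLib.Transfer.card_map_conj, ← CfsgLib.Transfer.card_map_conj g₁⁻¹ K]
      refine hsyl _ (hK.map _) ?_
      rintro _ ⟨k, hk, rfl⟩
      refine mem_centralizer_iff.2 fun q hq => ?_
      have h1 : (MulAut.conj g₁).toMonoidHom q ∈ R := hg₁Q ▸ mem_map_of_mem _ hq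
      have h2 := (show Commute _ k from mem_centralizer_iff.1 (hKR hk) _ h1).map
        (MulAut.conj g₁⁻¹).toMonoidHom
      have h3 : (MulAut.conj g₁⁻¹).toMonoidHom ((MulAut.conj g₁).toMonoidHom q) = q := by
        show g₁⁻¹ * (g₁ * q * g₁⁻¹) * g₁⁻¹⁻¹ = q
        group
      rw [h3] at h2
      exact h2.eq)
    (CfsgLib.Transfer.card_map_conj _ _).symm
  set m : G := c₂ * g₁ with hm
  have hmH : m ∈ H := by
    rw [hH, ← CfsgLib.Transfer.map_conj_eq_self_iff, hm, CfsgLib.TwoGroups.map_conj_mul, hc₂P]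
  have hmQ : Q.map (MulAut.conj m).toMonoidHom = R := by
    rw [hm, CfsgLib.TwoGroups.map_conj_mul, hg₁Q]
    refine eq_of_le_of_card_ge ?_ (CfsgLib.Transfer.card_map_conj _ _).ge
    rintro _ ⟨x, hx, rfl⟩
    show c₂ * x * c₂⁻¹ ∈ R
    rw [← mem_centralizer_iff.1 hc₂ x hx, mul_inv_cancel_right]
    exact hx
  set t' : G := m * t * m⁻¹ with ht'
  have ht'o : orderOf t' = 2 := by rw [ht', orderOf_conj]; exact ht
  have hRt' : ∀ x ∈ R, t' * x * t'⁻¹ = x := by
    intro x hx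
    rw [← hmQ] at hx
    obtain ⟨q, hq, rfl⟩ := hx
    show m * t * m⁻¹ * (m * q * m⁻¹) * (m * t * m⁻¹)⁻¹ = m * q * m⁻¹
    rw [show m * t * m⁻¹ * (m * q * m⁻¹) * (m * t * m⁻¹)⁻¹ = m * (t * q * t⁻¹) * m⁻¹ by group,
      hQt q hq]
  have hRt'' : ∀ p ∈ P, p * (t' * p * t'⁻¹) ∈ R := by
    intro p hp
    have hq : m⁻¹ * p * m ∈ P := (mem_normalizer_iff''.1 hmH p).1 hp
    rw [← hmQ]
    refine ⟨_, hQt2 _ hq, ?_⟩
    show m * (m⁻¹ * p * m * (t * (m⁻¹ * p * m) * t⁻¹)) * m⁻¹ = p * (t' * p * t'⁻¹)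
    rw [ht']; group
  set z : G := t' * s with hz
  have hRfix : ∀ x ∈ R, s * x * s⁻¹ = x := fun x hx =>
    conj_eq_of_commute (commute_of_mem_centralizer hx.2).symm
  have hzC := pow_card_commute (z := z) (inf_le_left : R ≤ P)
    (fun x hx => by
      rw [hz, show t' * s * x * (t' * s)⁻¹ = t' * (s * x * s⁻¹) * t'⁻¹ by group, hRfix x hx,
        hRt' x hx])
    (prod_shift hs2 ht'o hRfix hRt' hPc hsP inf_le_left hRs hRt'')
  have hzodd : Odd (orderOf z) := by
    have hN1 : Odd (orderOf (z ^ Nat.card P)) := by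
      by_contra he
      rw [Nat.not_odd_iff_even, even_iff_two_dvd] at he
      obtain ⟨k, hk⟩ := he
      have hk0 : 0 < k := by have := orderOf_pos (z ^ Nat.card P); omega
      have h1 := hCodd ((z ^ Nat.card P) ^ k) (pow_mem hzC k)
        (by rw [← pow_add, ← two_mul, ← hk, pow_orderOf_eq_one])
      have h2 := Nat.le_of_dvd hk0 (orderOf_dvd_of_pow_eq_one h1)
      omega
    refine (hPodd.mul hN1).of_dvd_nat (orderOf_dvd_of_pow_eq_one ?_)
    rw [pow_mul, pow_orderOf_eq_one]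
  have hsH : s ∈ H := hWH hsW
  have ht'H : t' ∈ H := mul_mem (mul_mem hmH htH) (inv_mem hmH)
  have hzN : (⟨t', ht'H⟩ : H) * ⟨s, hsH⟩ ∈ N := by
    rw [hNmem, ← Subgroup.orderOf_coe]; exact hzodd
  obtain ⟨w, hw, hwm⟩ := hsurj ⟨m, hmH⟩
  have hwt : ∃ t₁ ∈ (S₁ : Subgroup H), (t₁ : G) = t := by
    obtain ⟨a, ha, e⟩ := htW; exact ⟨a, ha, e⟩
  obtain ⟨t₁, ht₁, ht₁e⟩ := hwt
  obtain ⟨s₁, hs₁, hs₁e⟩ : ∃ s₁ ∈ (S₁ : Subgroup H), (s₁ : G) = s := by
    obtain ⟨a, ha, e⟩ := hsW; exact ⟨a, ha, e⟩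
  set mH : H := ⟨m, hmH⟩ with hmH'
  have e1 : (⟨t', ht'H⟩ : H) = mH * t₁ * mH⁻¹ := Subtype.ext (by
    show t' = m * (t₁ : G) * m⁻¹
    rw [ht₁e])
  have e2 : (⟨s, hsH⟩ : H) = s₁ := Subtype.ext hs₁e.symm
  rw [e1, e2] at hzN
  have hs₁i : s₁⁻¹ = s₁ := Subtype.ext (by rw [coe_inv, hs₁e, hsi])
  have h5 : (w * t₁ * w⁻¹)⁻¹ * s₁ ∈ N := by
    rw [← QuotientGroup.eq_one_iff] at hzN hwm ⊢
    simp only [QuotientGroup.mk_mul, QuotientGroup.mk_inv] at hzN hwm ⊢
    rw [inv_mul_eq_one] at hwm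
    rw [← hwm] at hzN
    rw [inv_mul_eq_one, eq_inv_of_mul_eq_one_left hzN, ← QuotientGroup.mk_inv, hs₁i]
  refine hsconj (w : G) ⟨w, hw, rfl⟩ ?_
  have h6 := hinjW _ _ (mul_mem (mul_mem hw ht₁) (inv_mem hw)) hs₁ h5
  rw [← ht₁e, ← hs₁e, ← h6]
  rfl

end CfsgLib.GW.Pair
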