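import Cfsg.Agent.Lib.GW.Pair.Initial

/-!
# No good subgroup

A good subgroup grows to a Sylow `r`-subgroup `Q` of `C(t)` inverted by `u`, which centralises a
Sylow `r`-subgroup of `C(u)`; this contradicts `no_pair`.
-/

set_option autoImplicit false

namespace CfsgLib.GW.Pair

open Subgroup DihedralGroup
open CfsgLib.TwoGroups CfsgLib.TwoGroups.Dihedral
open CfsgLib.GW.Dne
open scoped commutatorElement
open CfsgLib.Signalizer (involution_sq involution_inv involution_ne_one orderOf_eq_two_of orderOf_conj)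

universe u

variable {G : Type u} [Group G]

theorem centralizer_le_normalizer (P : Subgroup G) :
    centralizer (P : Set G) ≤ normalizer (P : Set G) := fun x hx => by
  rw [mem_normalizer_iff]
  intro z
  constructor
  · intro hz
    rw [← mem_centralizer_iff.1 hx z hz, mul_inv_cancel_right]; exact hz
  · intro hz
    have h1 : x⁻¹ * (x * z * x⁻¹) * x = x * z * x⁻¹ := by
      have h2 := mem_centralizer_iff.1 (inv_mem hx) _ hz
      rw [← h2, inv_mul_cancel_right]
    rw [show z = x⁻¹ * (x * z * x⁻¹) * x by group, h1]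
    exact hz

theorem normalizer_le_normalizer_centralizer [Finite G] (P : Subgroup G) :
    normalizer (P : Set G) ≤ normalizer (centralizer (P : Set G) : Set G) := fun y hy =>
  mem_normalizer_of_conj fun z hz => mem_centralizer_iff.2 fun p hp => by
    have hp' : y⁻¹ * p * y ∈ P := (mem_normalizer_iff''.1 hy p).1 hp
    have h4 := mem_centralizer_iff.1 hz _ hp'
    calc p * (y * z * y⁻¹) = y * ((y⁻¹ * p * y) * z) * y⁻¹ := by group
      _ = y * (z * (y⁻¹ * p * y)) * y⁻¹ := by rw [h4]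
      _ = y * z * y⁻¹ * p := by group

variable [Finite G]

/-- An odd invariant subgroup is generated by the fixed points of the three involutions. -/
theorem le_of_components {t u : G} (h : Four t u) {K Y : Subgroup G} (hK : Odd (Nat.card K))
    (hT : four t u ≤ normalizer (K : Set G)) (h1 : ∀ k ∈ K, Commute k t → k ∈ Y)
    (h2 : ∀ k ∈ K, Commute k u → k ∈ Y) (h3 : ∀ k ∈ K, Commute k (t * u) → k ∈ Y) : K ≤ Y := by
  have : Fact (Nat.Prime 2) := ⟨Nat.prime_two⟩
  have hA : IsMulCommutative (four t u) := ⟨⟨fun a b => Subtype.ext (by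
    obtain ⟨ha1, ha2⟩ := commute_of_mem h a.2
    rcases mem_four_cases h.ht h.hu h.comm b.2 with e | e | e | e <;>
      (show (a : G) * b = b * a; rw [e])
    exacts [by rw [one_mul, mul_one], ha1.eq, ha2.eq, (ha1.mul_right ha2).eq])⟩⟩
  refine CfsgLib.LocalEven.le_of_centralizers_le (p := 2) (A := four t u) (fun a ha => ?_)
    (by rw [h.card]; norm_num) hT hK.not_two_dvd_nat (fun a ha ha1 x hx => ?_)
  · rw [pow_two]
    rcases mem_four_cases h.ht h.hu h.comm ha with rfl | rfl | rfl | rfl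
    exacts [one_mul 1, involution_sq h.ht, involution_sq h.hu, involution_sq h.orderOf_mul]
  · have hxa := commute_of_mem_centralizer hx.2
    rcases mem_four_cases h.ht h.hu h.comm ha with rfl | rfl | rfl | rfl
    exacts [absurd rfl ha1, h1 x hx.1 hxa, h2 x hx.1 hxa, h3 x hx.1 hxa]

variable {r : ℕ} [Fact r.Prime]

theorem card_le_of_le {A B : Subgroup G} (h : A ≤ B) : Nat.card A ≤ Nat.card B :=
  Nat.card_le_card_of_injective _ (inclusion_injective h)

/-- An `r`-subgroup of `K` is conjugate in `K` into a largest one. -/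
theorem exists_conj_into_max {K A B : Subgroup G} (hA : IsPGroup r A) (hAK : A ≤ K)
    (hmax : ∀ R : Subgroup G, IsPGroup r R → R ≤ K → Nat.card R ≤ Nat.card A)
    (hB : IsPGroup r B) (hBK : B ≤ K) : ∃ c ∈ K, ∀ x ∈ B, c * x * c⁻¹ ∈ A := by
  obtain ⟨Q, hQ⟩ := (hB.comap_of_injective K.subtype K.subtype_injective).exists_le_sylow
  set B' : Subgroup G := (Q : Subgroup K).map K.subtype with hB'
  have hBB' : B ≤ B' := fun x hx => ⟨⟨x, hBK hx⟩, hQ hx, rfl⟩
  have hcard : Nat.card B' = Nat.card A := by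
    refine le_antisymm (hmax _ (Q.2.map _) (map_subtype_le _)) ?_
    obtain ⟨P, hP⟩ := (hA.comap_of_injective K.subtype K.subtype_injective).exists_le_sylow
    refine (card_le_of_le (show A ≤ (P : Subgroup K).map K.subtype from
      fun x hx => ⟨⟨x, hAK hx⟩, hP hx, rfl⟩)).trans (le_of_eq ?_)
    rw [hB', card_map_of_injective K.subtype_injective, card_map_of_injective K.subtype_injective,
      P.card_eq_multiplicity, Q.card_eq_multiplicity]
  obtain ⟨c, hc, e⟩ := exists_conj_of_max hA hAK (Q.2.map _) (map_subtype_le _) hmax hcard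
  refine ⟨c⁻¹, inv_mem hc, fun x hx => ?_⟩
  have hx' : x ∈ A.map (MulAut.conj c).toMonoidHom := e ▸ hBB' hx
  obtain ⟨a, ha, rfl⟩ := hx'
  show c⁻¹ * (c * a * c⁻¹) * c⁻¹⁻¹ ∈ A
  rw [show c⁻¹ * (c * a * c⁻¹) * c⁻¹⁻¹ = a by group]
  exact ha

/-- A good subgroup can be taken to be a Sylow subgroup of `C(t)`. -/
theorem exists_full (σ : Hyp G) (hC : Components G) (hr : r ≠ 2) (hB : CFixed G r) {t u : G}
    {E₀ : Subgroup G} (h₀ : Good r t u E₀) :
    ∃ E, Good r t u E ∧
      ∀ R : Subgroup G, IsPGroup r R → R ≤ centralizer ({t} : Set G) → Nat.card R ≤ Nat.card E := by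
  obtain ⟨E, hE, hmax⟩ := WellFounded.has_min (wellFounded_gt (α := Subgroup G))
    {E : Subgroup G | Good r t u E} ⟨E₀, h₀⟩
  refine ⟨E, hE, ?_⟩
  have key : ∀ {u' : G}, Good r t u' E → (∀ E', Good r t u' E' → Good r t u E') →
      (∃ b, b ≠ 1 ∧ IsRElt r b ∧ b ∈ centralizer (E : Set G) ∧ t * b * t⁻¹ = b⁻¹ ∧ Commute b u') →
      ∀ R : Subgroup G, IsPGroup r R → R ≤ centralizer ({t} : Set G) → Nat.card R ≤ Nat.card E := by
    rintro u' hg hback ⟨b, hb1, hbr, hbC, hbinv, hbu⟩ R hR hRt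
    have hI := hg.inner σ hr
    obtain ⟨P, hP, hPX, hPT, hPmax, ⟨s, g, hrot, hs, hg'⟩, hinv⟩ :=
      hI.exists_fixed_sylow σ hC hr hB (hI.le hbC) hb1 hbr hbu hbinv
    set X : Subgroup G := normalizer (E : Set G) with hX
    set H : Subgroup G := X ⊓ centralizer ({t} : Set G) with hH
    have hHc : Cfsg.HasNormalPComplement 2 H :=
      CfsgLib.Transfer.hasNormalPComplement_of_injective (inclusion (inf_le_right : H ≤ _))
        (inclusion_injective _) (centralizer_complement σ.inj σ.range σ.pos hg.hT.ht)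
    have hTH : four t u' ≤ H := le_inf hg.four_le fun x hx =>
      mem_centralizer_of_commute (commute_of_mem hg.hT hx).1
    have hodd : ∀ {Q : Subgroup G}, IsPGroup r Q → Q ≤ H → Q ≤ oddPart H := fun hQ hQH x hx =>
      (mem_oddPart hHc).2 ⟨hQH hx, odd_orderOf_of_mem (Setting.odd_of_pGroup hr hQ) hx⟩
    have hEH : E ≤ H := le_inf le_normalizer fun x hx => mem_centralizer_of_commute (hg.comm x hx)
    obtain ⟨c, hc, -, hce⟩ := exists_conj_into (isPGroup_four hg.hT.ht hg.hT.hu hg.hT.comm)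
      (odd_oddPart hHc) (hTH.trans (le_normalizer.trans (normalizer_le_oddPart hHc)))
      hP (hodd hP hPX) hPT (fun R' hR' hR'o => hPmax R' hR' (hR'o.trans (oddPart_le _)))
      hg.isP (hodd hg.isP hEH) hg.four_le
    have hcE : E.map (MulAut.conj c).toMonoidHom = E :=
      CfsgLib.TwoGroups.map_conj_eq_iff_mem_normalizer.2 (oddPart_le _ hc).1
    have hEP : E ≤ P := hcE ▸ hce
    have hPt : ∀ p ∈ P, Commute p t := fun p hp => commute_of_mem_centralizer (hPX hp).2
    have hgood : Good r t u' P := by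
      refine ⟨hg.hT, hP, hPT, hPt, fun hall => hg.moved fun e he => hall e (hEP he), ?_, hinv⟩
      exact not_complement_of_rot (mem_centralizer_iff.2 fun p hp => (hPt p hp).eq) hs hg' hrot
    have hPE : E = P := by
      by_contra hne
      exact hmax P (hback P hgood) (lt_of_le_of_ne hEP hne)
    subst hPE
    set C := centralizer ({t} : Set G) with hCdef
    obtain ⟨Q, hQ⟩ := (hR.comap_of_injective C.subtype C.subtype_injective).exists_le_sylow
    obtain ⟨Q', hQ'⟩ := (hg.isP.comap_of_injective C.subtype C.subtype_injective).exists_le_sylow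
    have hEQ : E ≤ (Q' : Subgroup C).map C.subtype := fun x hx =>
      ⟨⟨x, mem_centralizer_of_commute (hg.comm x hx)⟩, hQ' hx, rfl⟩
    have hEQ' : E = (Q' : Subgroup C).map C.subtype := by
      by_contra hne
      have hlt := lt_inf_normalizer (Q'.2.map C.subtype) (lt_of_le_of_ne hEQ hne)
      have h1 := hPmax _ ((Q'.2.map C.subtype).to_le inf_le_left)
        (le_inf inf_le_right (inf_le_left.trans (map_subtype_le _)))
      exact hlt.ne (eq_of_le_of_card_ge hlt.le h1)
    refine le_trans (card_le_of_le (show R ≤ (Q : Subgroup C).map C.subtype from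
      fun x hx => ⟨⟨x, hRt hx⟩, hQ hx, rfl⟩)) (le_of_eq ?_)
    rw [hEQ', card_map_of_injective C.subtype_injective, card_map_of_injective C.subtype_injective,
      Q.card_eq_multiplicity, Q'.card_eq_multiplicity]
  obtain ⟨b, hb1, hbr, hbC, hbinv, hb | hb⟩ := hE.inv
  · exact key hE (fun _ h => h) ⟨b, hb1, hbr, hbC, hbinv, hb⟩
  · refine key hE.other (fun E' h => ?_) ⟨b, hb1, hbr, hbC, hbinv, hb⟩
    have h' := h.other
    rwa [hE.hT.mul_mul_self] at h'

/-- A good subgroup which is a Sylow subgroup of `C(t)` leads to a contradiction. -/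
theorem not_full (σ : Hyp G) (hC : Components G) (hr : r ≠ 2)
    (hB : CFixed G r) {t u : G} {E : Subgroup G} (hE : Good r t u E)
    (hmax : ∀ R : Subgroup G, IsPGroup r R → R ≤ centralizer ({t} : Set G) → Nat.card R ≤ Nat.card E)
    {b : G} (hb1 : b ≠ 1) (hbr : IsRElt r b) (hbC : b ∈ centralizer (E : Set G))
    (hbinv : t * b * t⁻¹ = b⁻¹) (hbu : Commute b u) : False := by
  classical
  have h2 : Fact (Nat.Prime 2) := ⟨Nat.prime_two⟩
  have hrp : r.Prime := Fact.out
  have h := hE.hT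
  have hI := hE.inner σ hr
  obtain ⟨-, s₁, g₁, hF₁, hs₁, hg₁, -, -, -⟩ := hI.central σ
  have hT2 : IsPGroup 2 (four t u) := isPGroup_four h.ht h.hu h.comm
  have htT : t ∈ four t u := subset_closure (by simp)
  have huT : u ∈ four t u := subset_closure (by simp)
  -- a four-group through `u` centralising `b`
  set Cb : Subgroup G := centralizer (zpowers b : Set G) with hCb
  have hmemCb : ∀ {x : G}, Commute b x → x ∈ Cb := fun hx => mem_centralizer_iff.2 fun z hz => by
    obtain ⟨j, rfl⟩ := hz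
    exact (hx.zpow_left j).eq
  set M : Subgroup G := normalizer (zpowers b : Set G) with hM
  have hzb : IsPGroup r (zpowers b) := isPGroup_zpowers hbr
  have hTb : four t u ≤ M := by
    refine four_le (mem_normalizer_of_conj ?_) (mem_normalizer_of_conj ?_)
    · rintro _ ⟨j, rfl⟩
      refine ⟨-j, ?_⟩
      show b ^ (-j) = t * b ^ j * t⁻¹
      rw [← conj_zpow, hbinv, inv_zpow', zpow_neg]
    · rintro _ ⟨j, rfl⟩
      refine ⟨j, ?_⟩
      show b ^ j = u * b ^ j * u⁻¹
      rw [conj_eq_of_commute ((hbu.zpow_left j).symm)]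
  have hbodd : Odd (orderOf b) := odd_of_isRElt hr hbr
  have hCbrot : ¬ Cfsg.HasNormalPComplement 2 Cb := by
    obtain ⟨c, hc⟩ := isConj_iff.1 (σ.one_class u t h.hu h.ht)
    obtain ⟨c₁, -, hc₁⟩ := exists_conj_into_max hE.isP
      (fun x hx => mem_centralizer_of_commute (hE.comm x hx) : E ≤ centralizer ({t} : Set G)) hmax
      (hzb.map (MulAut.conj c).toMonoidHom) (by
        rintro _ ⟨z, hz, rfl⟩
        obtain ⟨j, rfl⟩ := hz
        refine mem_centralizer_of_commute ?_
        rw [← hc]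
        exact (hbu.zpow_left j).map (MulAut.conj c).toMonoidHom)
    set d : G := c₁ * c with hd
    have hq : d * b * d⁻¹ ∈ E := by
      have := hc₁ _ (CfsgLib.TwoGroups.conj_mem_map_conj (g := c) (mem_zpowers b))
      rwa [show c₁ * (c * b * c⁻¹) * c₁⁻¹ = d * b * d⁻¹ by rw [hd]; group] at this
    have hin : ∀ {x : G}, x ∈ centralizer (E : Set G) → d⁻¹ * x * d ∈ Cb := by
      intro x hx
      refine hmemCb ?_
      have h1 : Commute (d * b * d⁻¹) x := mem_centralizer_iff.1 hx _ hq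
      have h2 := h1.map (MulAut.conj d⁻¹).toMonoidHom
      have e1 : (MulAut.conj d⁻¹).toMonoidHom (d * b * d⁻¹) = b := by
        show d⁻¹ * (d * b * d⁻¹) * d⁻¹⁻¹ = b
        group
      have e2 : (MulAut.conj d⁻¹).toMonoidHom x = d⁻¹ * x * d := by
        show d⁻¹ * x * d⁻¹⁻¹ = d⁻¹ * x * d
        rw [inv_inv]
      rwa [e1, e2] at h2
    have hR := rot_conj hF₁.rot d⁻¹
    simp only [inv_inv] at hR
    exact not_complement_of_rot (hin hI.mem_t) (hin hs₁) (hin hg₁) hR
  have hIb : Inner M Cb u t :=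
    ⟨h.swap, normalizer_ne_top σ hr hzb (fun e => hb1 (by
        have h1 := mem_zpowers b
        rwa [e, mem_bot] at h1)) h.ht,
      centralizer_le_normalizer _, normalizer_le_normalizer_centralizer _, hCbrot,
      hmemCb hbu, hTb htT, fun ht' => hb1 (eq_one_of_inv_self hbodd (by
        rw [← hbinv]
        exact conj_eq_of_commute (show Commute t b from
          ((mem_centralizer_iff.1 ht' b (mem_zpowers b)) : b * t = t * b).symm)))⟩
  -- `u` has no fixed points on `E`
  set D₀ : Subgroup G := E ⊓ centralizer ({u} : Set G) with hD₀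
  have hfix : D₀ = ⊥ := by
    by_contra hD
    obtain ⟨y, hy, hy1, hyinv, hyD⟩ := exists_inverted_fixed hr hE.isP le_rfl
      (inf_le_left : D₀ ≤ E) h.hu (hE.four_le huT) (inf_le_left.trans le_normalizer)
      (fun p hp => commute_of_mem_centralizer hp.2) hE.moved
    have hyr : IsRElt r y := isRElt_of_mem hE.isP hy
    have hyb : Commute y b := mem_centralizer_iff.1 hbC y hy
    have hyM : y ∈ M := centralizer_le_normalizer _ (hmemCb hyb.symm)
    obtain ⟨P, hP, hPX, hPT, hPmax, ⟨s₂, g₂, hR₂, hs₂, hg₂⟩, -⟩ :=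
      hIb.exists_fixed_sylow σ hC hr hB hyM hy1 hyr (hE.comm y hy) hyinv
    set H₀ : Subgroup G := M ⊓ centralizer ({u} : Set G) with hH₀
    have hHc : Cfsg.HasNormalPComplement 2 H₀ :=
      CfsgLib.Transfer.hasNormalPComplement_of_injective (inclusion (inf_le_right : H₀ ≤ _))
        (inclusion_injective _) (centralizer_complement σ.inj σ.range σ.pos h.hu)
    have hTH : four u t ≤ H₀ := le_inf (four_le (hTb huT) (hTb htT)) fun x hx =>
      mem_centralizer_of_commute (commute_of_mem h.swap hx).1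
    have hodd : ∀ {Q : Subgroup G}, IsPGroup r Q → Q ≤ H₀ → Q ≤ oddPart H₀ := fun hQ hQH x hx =>
      (mem_oddPart hHc).2 ⟨hQH hx, odd_orderOf_of_mem (Setting.odd_of_pGroup hr hQ) hx⟩
    have hD₀H : D₀ ≤ H₀ := le_inf (fun x hx => centralizer_le_normalizer _
      (hmemCb (show Commute x b from mem_centralizer_iff.1 hbC x hx.1).symm)) inf_le_right
    have hD₀T : four u t ≤ normalizer (D₀ : Set G) := fun w hw => mem_normalizer_of_conj fun z hz => by
      obtain ⟨hwu, hwt⟩ := commute_of_mem h.swap hw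
      have hwE : w ∈ normalizer (E : Set G) := four_le (hE.four_le huT) (hE.four_le htT) hw
      exact ⟨(mem_normalizer_iff.1 hwE z).1 hz.1, mem_centralizer_of_commute
        ((hwu.mul_left (commute_of_mem_centralizer hz.2)).mul_left hwu.inv_left)⟩
    obtain ⟨c, -, hcT, hce⟩ := exists_conj_into (isPGroup_four h.hu h.ht h.comm.symm)
      (odd_oddPart hHc) (hTH.trans (le_normalizer.trans (normalizer_le_oddPart hHc)))
      hP (hodd hP hPX) hPT (fun R' hR' hR'o => hPmax R' hR' (hR'o.trans (oddPart_le _)))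
      (hE.isP.to_le inf_le_left) (hodd (hE.isP.to_le inf_le_left) hD₀H) hD₀T
    set H : Subgroup G := centralizer (D₀ : Set G) with hH
    have hin : ∀ {x : G}, x ∈ centralizer (P : Set G) → c⁻¹ * x * c ∈ H := fun {x} hx =>
      mem_centralizer_iff.2 fun d hd => by
        have h1 := mem_centralizer_iff.1 hx _ (hce (CfsgLib.TwoGroups.conj_mem_map_conj hd))
        calc d * (c⁻¹ * x * c) = c⁻¹ * ((c * d * c⁻¹) * x) * c := by group
          _ = c⁻¹ * (x * (c * d * c⁻¹)) * c := by rw [h1]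
          _ = c⁻¹ * x * c * d := by group
    have hcu : c⁻¹ * u * c = u := by
      rw [mul_assoc, mem_centralizer_iff.1 hcT u (subset_closure (by simp)), inv_mul_cancel_left]
    have hR₂' : Rot u (c⁻¹ * s₂ * c) (c⁻¹ * g₂ * c) := by
      have := rot_conj hR₂ c⁻¹
      simp only [inv_inv] at this
      rwa [hcu] at this
    have htH : t ∈ H := mem_centralizer_iff.2 fun d hd => (hE.comm d hd.1).eq
    have huH : u ∈ H := mem_centralizer_iff.2 fun d hd => (commute_of_mem_centralizer hd.2).eq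
    have hEH : centralizer (E : Set G) ≤ H := fun x hx =>
      mem_centralizer_iff.2 fun d hd => mem_centralizer_iff.1 hx d hd.1
    obtain ⟨g, hgH, hg⟩ := fused_of_two σ h htH huH (hEH hs₁) (hEH hg₁) hF₁.rot
      (hin hs₂) (hin hg₂) hR₂'
    have hHtop : H ≠ ⊤ := fun e => normalizer_ne_top σ hr (hE.isP.to_le inf_le_left) hD h.ht
      (top_le_iff.1 (e ▸ centralizer_le_normalizer D₀))
    have hF : Fused H t u g := ⟨hHtop, htH, huH, hgH, hg⟩
    have hyH : y ∈ H := mem_centralizer_iff.2 fun d hd => (hyD d hd).eq.symm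
    rcases hC.commutingTori H t u y b r hHtop htH huH h.ht h.hu h.ne h.comm hrp hr hyH (hEH hbC) hyr hbr
      (hE.comm y hy) hyinv hbu hbinv (by
        rw [hyb.eq, mul_inv_cancel_right, mul_inv_cancel]; exact one_mem _) with hc | hc
    · exact hy1 (eq_one_of_inner hr hB (fused_rotate hF) hc hyr hyinv)
    · exact hb1 (eq_one_of_inner hr hB hF hc hbr hbinv)
  have hEinv : ∀ x ∈ E, u * x * u⁻¹ = x⁻¹ :=
    CfsgLib.PGroups.BSW.inverts_of_fpf E (involution_sq h.hu)
      (fun x hx => (mem_normalizer_iff.1 (hE.four_le huT) x).1 hx) fun x hx hfx => by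
        have h1 : x ∈ D₀ := ⟨hx, mem_centralizer_of_commute (commute_of_conj_eq hfx).symm⟩
        rwa [hfix, mem_bot] at h1
  have hCc : ∀ {x : G}, orderOf x = 2 → Cfsg.HasNormalPComplement 2 (centralizer ({x} : Set G)) :=
    fun hx => centralizer_complement σ.inj σ.range σ.pos hx
  have hToddC : ∀ {x : G}, orderOf x = 2 → x ∈ four t u →
      four t u ≤ normalizer (oddPart (centralizer ({x} : Set G)) : Set G) := by
    intro x hxo hx
    refine le_trans (fun w hw => mem_centralizer_of_commute ?_)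
      (le_normalizer.trans (normalizer_le_oddPart (hCc hxo)))
    obtain ⟨h1, h2'⟩ := commute_of_mem h hw
    rcases mem_four_cases h.ht h.hu h.comm hx with rfl | rfl | rfl | rfl
    exacts [Commute.one_right _, h1, h2', h1.mul_right h2']
  have hoddC : ∀ {x : G}, orderOf x = 2 → ∀ {Q : Subgroup G}, IsPGroup r Q →
      (∀ z ∈ Q, Commute z x) → Q ≤ oddPart (centralizer ({x} : Set G)) := fun {x} hxo {Q} hQ hQx z hz =>
    (mem_oddPart (hCc hxo)).2 ⟨mem_centralizer_of_commute (hQx z hz),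
      odd_orderOf_of_mem (Setting.odd_of_pGroup hr hQ) hz⟩
  -- no `r`-element centralises the four-group
  have hno : ∀ d : G, IsRElt r d → Commute d t → Commute d u → d = 1 := by
    intro d hd hdt hdu
    have hTd : four t u ≤ normalizer (zpowers d : Set G) := by
      refine four_le (mem_normalizer_of_conj ?_) (mem_normalizer_of_conj ?_) <;>
        rintro _ ⟨j, rfl⟩ <;> refine ⟨j, ?_⟩
      · show d ^ j = t * d ^ j * t⁻¹
        rw [conj_eq_of_commute ((hdt.zpow_left j).symm)]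
      · show d ^ j = u * d ^ j * u⁻¹
        rw [conj_eq_of_commute ((hdu.zpow_left j).symm)]
    obtain ⟨c, -, hcT, hce⟩ := exists_conj_into hT2 (odd_oddPart (hCc h.ht)) (hToddC h.ht htT)
      hE.isP (hoddC h.ht hE.isP hE.comm) hE.four_le
      (fun R' hR' hR'o => hmax R' hR' (hR'o.trans (oddPart_le _)))
      (isPGroup_zpowers hd) (hoddC h.ht (isPGroup_zpowers hd) (by
        rintro _ ⟨j, rfl⟩; exact hdt.zpow_left j)) hTd
    obtain ⟨-, hcu⟩ := Four.mem_centralizer_iff'.1 hcT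
    have hd' : c * d * c⁻¹ ∈ D₀ := ⟨hce (CfsgLib.TwoGroups.conj_mem_map_conj (mem_zpowers d)),
      mem_centralizer_of_commute ((hcu.mul_left hdu).mul_left hcu.inv_left)⟩
    rw [hfix, mem_bot] at hd'
    exact conj_eq_one_iff.1 hd'
  -- a Sylow subgroup of `C(u)`
  obtain ⟨Q₀, hbQ₀, hQ₀K, hQ₀, hQ₀T, hQ₀max⟩ := exists_invSylow (r := r) hT2
    (odd_oddPart (hCc h.hu)) (hToddC h.hu huT) hzb (hoddC h.hu hzb (by
      rintro _ ⟨j, rfl⟩; exact hbu.zpow_left j)) hTb
  have hQ₀u : ∀ z ∈ Q₀, Commute z u := fun z hz =>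
    commute_of_mem_centralizer (oddPart_le _ (hQ₀K hz))
  have hQ₀inv : ∀ z ∈ Q₀, t * z * t⁻¹ = z⁻¹ :=
    CfsgLib.PGroups.BSW.inverts_of_fpf Q₀ (involution_sq h.ht)
      (fun z hz => (mem_normalizer_iff.1 (hQ₀T htT) z).1 hz)
      fun z hz hfx => hno z (isRElt_of_mem hQ₀ hz) (commute_of_conj_eq hfx).symm (hQ₀u z hz)
  obtain ⟨e₀, he₀, he₀1⟩ := E.bot_or_exists_ne_one.resolve_left hE.ne_bot
  have hEM : E ≤ M := fun x hx =>
    centralizer_le_normalizer _ (hmemCb (mem_centralizer_iff.1 hbC x hx : Commute x b).symm)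
  have hQ₀M : Q₀ ≤ M := fun z hz => centralizer_le_normalizer _ (hmemCb
    (CfsgLib.PGroups.BSW.commute_of_inverted Q₀ hQ₀inv (hbQ₀ (mem_zpowers b)) hz))
  have hQ₀core : Q₀ ≤ core M := fun z hz =>
    hIb.coprime σ hC hr hB (hEM he₀) he₀1 (isRElt_of_mem hE.isP he₀) (hE.comm _ he₀) (hEinv _ he₀)
      (hQ₀M hz) (isRElt_of_mem hQ₀ hz) (hQ₀u z hz) (hQ₀inv z hz)
  obtain ⟨-, s₂, g₂, hF₂, -, -, -, -, -⟩ := hIb.central σ
  set Z : Subgroup G := E ⊔ core M with hZ
  have hEcore : E ≤ normalizer (core M : Set G) := hEM.trans (le_normalizer_core M)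
  have hZodd : Odd (Nat.card Z) := by
    have h1 := CfsgLib.Core.card_sup_mul_card_inf E (core M) hEcore
    exact ((Setting.odd_of_pGroup hr hE.isP).mul (odd_core M)).of_dvd_nat (h1 ▸ dvd_mul_right _ _)
  have hZT : four t u ≤ normalizer (Z : Set G) := fun w hw => mem_normalizer_of_conj fun z hz => by
    obtain ⟨a, ha, k, hk, rfl⟩ := (CfsgLib.Core.mem_sup_iff_mul hEcore).1 hz
    rw [show w * (a * k) * w⁻¹ = w * a * w⁻¹ * (w * k * w⁻¹) by group]
    exact mul_mem (mem_sup_left ((mem_normalizer_iff.1 (hE.four_le hw) a).1 ha))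
      (mem_sup_right ((mem_normalizer_iff.1 (le_normalizer_core M (hTb hw)) k).1 hk))
  obtain ⟨R, hER, hRZ, hR, hRT, hRmax⟩ := exists_invSylow hT2 hZodd hZT hE.isP le_sup_left hE.four_le
  obtain ⟨c, hcZ, hcT, hce⟩ := exists_conj_into hT2 hZodd hZT hR hRZ hRT hRmax hQ₀
    (hQ₀core.trans le_sup_right) hQ₀T
  obtain ⟨hct, hcu⟩ := Four.mem_centralizer_iff'.1 hcT
  set Qu : Subgroup G := Q₀.map (MulAut.conj c).toMonoidHom with hQu
  have hQup : IsPGroup r Qu := hQ₀.map _
  have hQuu : ∀ z ∈ Qu, Commute z u := by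
    rintro _ ⟨z, hz, rfl⟩
    exact (hcu.mul_left (hQ₀u z hz)).mul_left hcu.inv_left
  have hQuinv : ∀ z ∈ Qu, t * z * t⁻¹ = z⁻¹ := by
    rintro _ ⟨z, hz, rfl⟩
    show t * (c * z * c⁻¹) * t⁻¹ = (c * z * c⁻¹)⁻¹
    rw [show t * (c * z * c⁻¹) * t⁻¹ = t * c * t⁻¹ * (t * z * t⁻¹) * (t * c * t⁻¹)⁻¹ by group,
      conj_eq_of_commute hct.symm, hQ₀inv z hz]
    group
  have hcard₀ : Nat.card Q₀ = Nat.card E := by
    obtain ⟨d, hd⟩ := isConj_iff.1 (σ.one_class t u h.ht h.hu)
    refine le_antisymm ?_ ?_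
    · rw [← CfsgLib.Transfer.card_map_conj d⁻¹ Q₀]
      refine hmax _ (hQ₀.map _) ?_
      rintro _ ⟨z, hz, rfl⟩
      refine mem_centralizer_of_commute ?_
      have h1 := (hQ₀u z hz).map (MulAut.conj d⁻¹).toMonoidHom
      rwa [show (MulAut.conj d⁻¹).toMonoidHom u = t by
        show d⁻¹ * u * d⁻¹⁻¹ = t
        rw [← hd]; group] at h1
    · rw [← CfsgLib.Transfer.card_map_conj d E]
      refine hQ₀max _ (hE.isP.map _) (hoddC h.hu (hE.isP.map _) ?_)
      rintro _ ⟨z, hz, rfl⟩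
      rw [← hd]
      exact (hE.comm z hz).map (MulAut.conj d).toMonoidHom
  have hcard : Nat.card Qu = Nat.card E := by rw [hQu, CfsgLib.Transfer.card_map_conj, hcard₀]
  have hQumax : ∀ K : Subgroup G, IsPGroup r K → (∀ z ∈ K, Commute z u) →
      Nat.card K ≤ Nat.card Qu := fun K hK hKu => by
    rw [hQu, CfsgLib.Transfer.card_map_conj]
    exact hQ₀max K hK (hoddC h.hu hK hKu)
  have hQueq : Qu = R ⊓ core M := by
    refine eq_of_le_of_card_ge (le_inf hce ?_) (hQumax _ (hR.to_le inf_le_left) ?_)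
    · have hcM : c ∈ M := (sup_le hEM (core_le M)) hcZ
      rintro _ ⟨z, hz, rfl⟩
      exact (mem_normalizer_iff.1 (le_normalizer_core M hcM) z).1 (hQ₀core hz)
    · refine fun z hz => fixed_core hB hF₂ (hR.to_le inf_le_left) inf_le_right ?_ z hz
      refine mem_normalizer_of_conj fun y hy => ⟨(mem_normalizer_iff.1 (hRT huT) y).1 hy.1, ?_⟩
      exact (mem_normalizer_iff.1 (le_normalizer_core M (hTb huT)) y).1 hy.2
  have hcomm : ∀ x ∈ E, ∀ y ∈ Qu, Commute x y := by
    intro x hx y hy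
    have h1 : x * y * x⁻¹ ∈ Qu := by
      rw [hQueq] at hy ⊢
      exact ⟨R.mul_mem (R.mul_mem (hER hx) hy.1) (R.inv_mem (hER hx)),
        (mem_normalizer_iff.1 (hEcore hx) y).1 hy.2⟩
    have h3 := conj_eq_of_commute (hQuu _ h1).symm
    rw [show u * (x * y * x⁻¹) * u⁻¹ = u * x * u⁻¹ * (u * y * u⁻¹) * (u * x * u⁻¹)⁻¹ by group,
      hEinv x hx, conj_eq_of_commute (hQuu y hy).symm, inv_inv] at h3
    have h4 : Commute (x * x) y := by
      show x * x * y = y * (x * x)
      calc x * x * y = x * (x * y * x⁻¹) * x := by group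
        _ = x * (x⁻¹ * y * x) * x := by rw [h3]
        _ = y * (x * x) := by group
    obtain ⟨k, hk⟩ := mem_zpowers_sq (odd_orderOf_of_mem (Setting.odd_of_pGroup hr hE.isP) hx)
    rw [← hk]
    exact h4.zpow_left k
  -- the product is a Sylow subgroup of `C(E)`
  set P : Subgroup G := E ⊔ Qu with hPdef
  have hEN : E ≤ normalizer (Qu : Set G) := fun x hx => mem_normalizer_of_conj fun y hy => by
    rw [(hcomm x hx y hy).eq, mul_inv_cancel_right]; exact hy
  have hPmem : ∀ p, p ∈ P ↔ ∃ x ∈ E, ∃ y ∈ Qu, p = x * y := fun p => CfsgLib.Core.mem_sup_iff_mul hEN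
  have hPp : IsPGroup r P := hE.isP.to_sup_of_normal_right' hQup hEN
  have hEc : ∀ x ∈ E, ∀ y ∈ E, Commute x y := fun x hx y hy =>
    CfsgLib.PGroups.BSW.commute_of_inverted E hEinv hx hy
  have hQuc : ∀ x ∈ Qu, ∀ y ∈ Qu, Commute x y := fun x hx y hy =>
    CfsgLib.PGroups.BSW.commute_of_inverted Qu hQuinv hx hy
  have hPc : ∀ p ∈ P, ∀ q ∈ P, Commute p q := by
    intro p hp q hq
    obtain ⟨x, hx, y, hy, rfl⟩ := (hPmem p).1 hp
    obtain ⟨x', hx', y', hy', rfl⟩ := (hPmem q).1 hq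
    exact ((hEc x hx x' hx').mul_right (hcomm x hx y' hy')).mul_left
      (((hcomm x' hx' y hy).symm).mul_right (hQuc y hy y' hy'))
  have hPT : four t u ≤ normalizer (P : Set G) := by
    refine four_le (mem_normalizer_of_conj ?_) (mem_normalizer_of_conj ?_) <;>
      intro p hp <;> obtain ⟨x, hx, y, hy, rfl⟩ := (hPmem p).1 hp
    · rw [show t * (x * y) * t⁻¹ = t * x * t⁻¹ * (t * y * t⁻¹) by group,
        conj_eq_of_commute (hE.comm x hx).symm, hQuinv y hy]
      exact mul_mem (mem_sup_left hx) (mem_sup_right (inv_mem hy))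
    · rw [show u * (x * y) * u⁻¹ = u * x * u⁻¹ * (u * y * u⁻¹) by group,
        hEinv x hx, conj_eq_of_commute (hQuu y hy).symm]
      exact mul_mem (mem_sup_left (inv_mem hx)) (mem_sup_right hy)
  have ht2 : ∀ p ∈ P, p * (t * p * t⁻¹) ∈ E := by
    intro p hp
    obtain ⟨x, hx, y, hy, rfl⟩ := (hPmem p).1 hp
    rw [show t * (x * y) * t⁻¹ = t * x * t⁻¹ * (t * y * t⁻¹) by group,
      conj_eq_of_commute (hE.comm x hx).symm, hQuinv y hy,
      (hcomm x hx y hy).symm.mul_mul_mul_comm, mul_inv_cancel, mul_one]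
    exact mul_mem hx hx
  refine no_pair σ.inj σ.range σ.pos σ.one_class h.ht h.hu h.ne h.comm hr hE.isP hQup hE.ne_bot
    (fun x hx => conj_eq_of_commute (hE.comm x hx).symm) hEinv
    (fun y hy => conj_eq_of_commute (hQuu y hy).symm) hQuinv hcomm hcard hmax ?_
  rw [← hPdef]
  intro K hK hKE
  by_contra hlt
  push Not at hlt
  set CE : Subgroup G := centralizer (E : Set G) with hCE
  have hPCE : P ≤ CE := fun p hp => mem_centralizer_iff.2 fun x hx =>
    (hPc x (mem_sup_left hx) p hp).eq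
  obtain ⟨S₀, hS₀⟩ := (hPp.comap_of_injective CE.subtype CE.subtype_injective).exists_le_sylow
  have hPS : P < (S₀ : Subgroup CE).map CE.subtype := by
    refine lt_of_le_of_ne (fun x hx => ⟨⟨x, hPCE hx⟩, hS₀ hx, rfl⟩) fun e => ?_
    obtain ⟨S', hS'⟩ := (hK.comap_of_injective CE.subtype CE.subtype_injective).exists_le_sylow
    have h1 := card_le_of_le (show K ≤ (S' : Subgroup CE).map CE.subtype from
      fun x hx => ⟨⟨x, hKE hx⟩, hS' hx, rfl⟩)
    rw [card_map_of_injective CE.subtype_injective, S'.card_eq_multiplicity,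
      ← S₀.card_eq_multiplicity] at h1
    rw [e, card_map_of_injective CE.subtype_injective] at hlt
    omega
  have hgrow := lt_inf_normalizer (S₀.2.map CE.subtype) hPS
  set A : Subgroup G := CE ⊓ normalizer (P : Set G) with hA
  have htA : t ∈ A := ⟨hI.mem_t, hPT htT⟩
  obtain ⟨y₁, hy₁, hy₁1⟩ := Qu.bot_or_exists_ne_one.resolve_left fun e => hE.ne_bot (by
    rw [← card_eq_one, ← hcard, e, card_bot])
  have hPodd : Odd (Nat.card P) := Setting.odd_of_pGroup hr hPp
  have hCP := no_involution σ h hPT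
    (fun ht' => hy₁1 (eq_one_of_inv_self (odd_orderOf_of_mem hPodd (mem_sup_right hy₁)) (by
      rw [← hQuinv y₁ hy₁, ← mem_centralizer_iff.1 ht' y₁ (mem_sup_right hy₁), mul_inv_cancel_right])))
    (fun hu' => he₀1 (eq_one_of_inv_self (odd_orderOf_of_mem hPodd (mem_sup_left he₀)) (by
      rw [← hEinv e₀ he₀, ← mem_centralizer_iff.1 hu' e₀ (mem_sup_left he₀), mul_inv_cancel_right])))
    (fun hv' => he₀1 (eq_one_of_inv_self (odd_orderOf_of_mem hPodd (mem_sup_left he₀)) (by
      have h1 : t * u * e₀ * (t * u)⁻¹ = e₀⁻¹ := by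
        rw [show t * u * e₀ * (t * u)⁻¹ = t * (u * e₀ * u⁻¹) * t⁻¹ by group, hEinv e₀ he₀,
          conj_eq_of_commute ((hE.comm e₀ he₀).inv_left).symm]
      rw [← h1, ← mem_centralizer_iff.1 hv' e₀ (mem_sup_left he₀), mul_inv_cancel_right])))
  have hconjodd : ∀ a ∈ A, Odd (orderOf (a * t * a⁻¹ * t)) := by
    intro a ha
    set t' : G := a * t * a⁻¹ with ht'
    have hfixE : ∀ {w : G}, w ∈ CE → ∀ x ∈ E, w * x * w⁻¹ = x := fun hw x hx => by
      rw [← mem_centralizer_iff.1 hw x hx, mul_inv_cancel_right]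
    have ht'2 : ∀ p ∈ P, p * (t' * p * t'⁻¹) ∈ E := by
      intro p hp
      have hq : a⁻¹ * p * a ∈ P := (mem_normalizer_iff''.1 ha.2 p).1 hp
      have h1 := hfixE ha.1 _ (ht2 _ hq)
      rw [show a * (a⁻¹ * p * a * (t * (a⁻¹ * p * a) * t⁻¹)) * a⁻¹ = p * (t' * p * t'⁻¹) by
        rw [ht']; group] at h1
      rw [h1]
      exact ht2 _ hq
    have hzC := pow_card_commute (z := t' * t) (le_sup_left : E ≤ P)
      (fun x hx => by
        rw [show t' * t * x * (t' * t)⁻¹ = t' * (t * x * t⁻¹) * t'⁻¹ by group, hfixE htA.1 x hx]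
        exact hfixE (mul_mem (mul_mem ha.1 htA.1) (inv_mem ha.1)) x hx)
      (prod_shift h.ht (by rw [ht', orderOf_conj]; exact h.ht) (hfixE htA.1)
        (hfixE (mul_mem (mul_mem ha.1 htA.1) (inv_mem ha.1))) hPc
        (fun p hp => (mem_normalizer_iff.1 htA.2 p).1 hp) le_sup_left ht2 ht'2)
    have hN1 : Odd (orderOf ((t' * t) ^ Nat.card P)) := by
      by_contra he
      rw [Nat.not_odd_iff_even, even_iff_two_dvd] at he
      obtain ⟨k, hk⟩ := he
      have hk0 : 0 < k := by have := orderOf_pos ((t' * t) ^ Nat.card P); omega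
      have h1 := hCP (((t' * t) ^ Nat.card P) ^ k) (pow_mem hzC k)
        (by rw [← pow_add, ← two_mul, ← hk, pow_orderOf_eq_one])
      have h3 := Nat.le_of_dvd hk0 (orderOf_dvd_of_pow_eq_one h1)
      omega
    refine (hPodd.mul hN1).of_dvd_nat (orderOf_dvd_of_pow_eq_one ?_)
    rw [pow_mul, pow_orderOf_eq_one]
  have hAc : Cfsg.HasNormalPComplement 2 A := by
    by_contra hno'
    obtain ⟨a, a', g, ha, ha', hg, hR'⟩ := exists_rot σ.inj σ.range σ.pos A hno'
    obtain ⟨W, hW⟩ := ((IsPGroup.of_card (n := 1) (by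
      rw [Nat.card_zpowers, pow_one, h.ht]) : IsPGroup 2 (zpowers t)).comap_of_injective A.subtype
      A.subtype_injective).exists_le_sylow
    set WG : Subgroup G := (W : Subgroup A).map A.subtype with hWG
    have htW : t ∈ WG := ⟨⟨t, htA⟩, hW (mem_zpowers t), rfl⟩
    have htc : ∀ w ∈ WG, Commute w t := by
      intro w hw
      have hwA : w ∈ A := map_subtype_le _ hw
      have hzW : w * t * w⁻¹ * t ∈ WG := mul_mem (mul_mem (mul_mem hw htW) (inv_mem hw)) htW
      obtain ⟨m, hm⟩ := (W.2.map A.subtype : IsPGroup 2 WG) ⟨_, hzW⟩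
      have h1 : orderOf (w * t * w⁻¹ * t) = 1 := Nat.eq_one_of_dvd_coprimes
        ((Nat.coprime_two_left.2 (hconjodd w hwA)).pow_left m)
        (orderOf_dvd_of_pow_eq_one (congrArg Subtype.val hm)) dvd_rfl
      rw [orderOf_eq_one_iff, mul_eq_one_iff_eq_inv, involution_inv h.ht] at h1
      exact mul_inv_eq_iff_eq_mul.1 h1
    obtain ⟨d, hd⟩ := CfsgLib.TwoGroups.exists_conj_le_sylow W
      ((isPGroup_four hR'.ht hR'.hu hR'.comm).comap_of_injective A.subtype A.subtype_injective)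
    have hin : ∀ x, x ∈ four a a' → x ∈ A → Commute ((d : G) * x * (d : G)⁻¹) t := fun x hx hxA =>
      htc _ ⟨_, hd (CfsgLib.TwoGroups.conj_mem_map_conj
        (show (⟨x, hxA⟩ : A) ∈ (four a a').subgroupOf A from hx)), rfl⟩
    have hRc := rot_conj hR' (d : G)
    set g' : G := (d : G) * g * (d : G)⁻¹ with hg'
    have hg'A : g' ∈ A := mul_mem (mul_mem d.2 hg) (inv_mem d.2)
    have hmove : g' * t * g'⁻¹ ≠ t ∧ Commute (g' * t * g'⁻¹) t := by
      have hfr := four_of_rot hRc
      rcases (three_involutions σ.inj σ.range σ.pos hRc.ht hRc.hu (involution_sq h.ht) hRc.ne hRc.comm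
          (hin a (subset_closure (by simp)) ha) (hin a' (subset_closure (by simp)) ha')).resolve_left
          (involution_ne_one h.ht) with e | e | e
      · rw [e, hRc.conj1]
        exact ⟨hRc.ne.symm, hRc.comm.symm⟩
      · rw [e, hRc.conj2]
        exact ⟨hfr.mul_ne_right, hRc.comm.mul_left (Commute.refl _)⟩
      · have e2 : g' * t * g'⁻¹ = (d : G) * a * (d : G)⁻¹ := by
          rw [e, show g' * ((d : G) * a * (d : G)⁻¹ * ((d : G) * a' * (d : G)⁻¹)) * g'⁻¹ =
            g' * ((d : G) * a * (d : G)⁻¹) * g'⁻¹ * (g' * ((d : G) * a' * (d : G)⁻¹) * g'⁻¹) by group,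
            hRc.conj1, hRc.conj2, ← mul_assoc, hRc.comm.symm.eq, mul_assoc, involution_sq hRc.hu,
            mul_one]
        rw [e2, e]
        exact ⟨hfr.mul_ne_left.symm, (Commute.refl _).mul_right hRc.comm⟩
    have h1 := hconjodd g' hg'A
    rw [Four.orderOf_mul ⟨by rw [orderOf_conj]; exact h.ht, h.ht, hmove.1, hmove.2⟩] at h1
    exact absurd h1 (by decide)
  have hAT : four t u ≤ normalizer (oddPart A : Set G) := by
    refine le_trans (fun w hw => mem_normalizer_of_conj (H := A) fun z hz => ⟨?_, ?_⟩)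
      (normalizer_le_oddPart hAc)
    · exact (mem_normalizer_iff.1 (normalizer_le_normalizer_centralizer E (hE.four_le hw)) z).1 hz.1
    · exact (normalizer (P : Set G)).mul_mem ((normalizer (P : Set G)).mul_mem (hPT hw) hz.2)
        ((normalizer (P : Set G)).inv_mem (hPT hw))
  have hPA : P ≤ oddPart A := fun p hp =>
    (mem_oddPart hAc).2 ⟨⟨hPCE hp, le_normalizer hp⟩, odd_orderOf_of_mem hPodd hp⟩
  obtain ⟨R₂, hPR₂, hR₂A, hR₂, hR₂T, hR₂max⟩ := exists_invSylow hT2 (odd_oddPart hAc) hAT hPp hPA hPT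
  have hR₂P : ¬ R₂ ≤ P := fun hle => by
    set S' := (S₀ : Subgroup CE).map CE.subtype with hS'
    have hS'p : IsPGroup r S' := S₀.2.map _
    have h1 : Nat.card (S' ⊓ normalizer (P : Set G) : Subgroup G) ≤ Nat.card R₂ :=
      hR₂max _ (hS'p.to_le inf_le_left) (fun z hz => (mem_oddPart hAc).2
        ⟨⟨map_subtype_le _ hz.1, hz.2⟩, odd_orderOf_of_mem (Setting.odd_of_pGroup hr hS'p) hz.1⟩)
    exact hgrow.ne (eq_of_le_of_card_ge hgrow.le (h1.trans (card_le_of_le hle)))
  have hRt : ∀ z ∈ R₂, Commute z t → z ∈ E := fun z hz hzt => by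
    have : E = R₂ ⊓ centralizer ({t} : Set G) := eq_of_le_of_card_ge
      (le_inf (le_sup_left.trans hPR₂) fun x hx => mem_centralizer_of_commute (hE.comm x hx))
      (hmax _ (hR₂.to_le inf_le_left) inf_le_right)
    rw [this]
    exact ⟨hz, mem_centralizer_of_commute hzt⟩
  have hRu : ∀ z ∈ R₂, Commute z u → z ∈ Qu := fun z hz hzu => by
    have : Qu = R₂ ⊓ centralizer ({u} : Set G) := eq_of_le_of_card_ge
      (le_inf (le_sup_right.trans hPR₂) fun x hx => mem_centralizer_of_commute (hQuu x hx))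
      (hQumax _ (hR₂.to_le inf_le_left) fun x hx => commute_of_mem_centralizer hx.2)
    rw [this]
    exact ⟨hz, mem_centralizer_of_commute hzu⟩
  obtain ⟨z, hz, hzv, hzP⟩ : ∃ z ∈ R₂, Commute z (t * u) ∧ z ∉ P := by
    by_contra hall
    push Not at hall
    exact hR₂P (le_of_components h (Setting.odd_of_pGroup hr hR₂) hR₂T
      (fun k hk hkt => mem_sup_left (hRt k hk hkt)) (fun k hk hku => mem_sup_right (hRu k hk hku))
      hall)
  set d : G := z * (t * z⁻¹ * t⁻¹) with hd
  have hdR : d ∈ R₂ := mul_mem hz ((mem_normalizer_iff.1 (hR₂T htT) _).1 (inv_mem hz))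
  have hd1 : d ≠ 1 := fun e => hzP (mem_sup_left (hRt z hz (split_eq_one_iff.1 e)))
  have hdt : t * d * t⁻¹ = d⁻¹ := inverted_of_split h.ht
  have hdv : Commute d (t * u) :=
    hzv.mul_left ((h.mul_right'.comm.mul_left hzv.inv_left).mul_left h.mul_right'.comm.inv_left)
  have hdu : u * d * u⁻¹ = d⁻¹ := by
    have h1 := conj_eq_of_commute hdv.symm
    rw [show t * u * d * (t * u)⁻¹ = t * (u * d * u⁻¹) * t⁻¹ by group] at h1
    have h3 : u * d * u⁻¹ = t⁻¹ * d * t := by
      nth_rewrite 2 [← h1]; group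
    rw [h3, involution_inv h.ht]
    nth_rewrite 2 [← involution_inv h.ht]
    exact hdt
  -- an element of `Qu` commuting with `d` modulo `E`
  haveI := hR₂.isNilpotent
  have hR₂N : ∀ y ∈ R₂, y ∈ A := fun y hy => oddPart_le _ (hR₂A hy)
  have hex : ∃ k, R₂.lowerCentralSeries k ⊓ P ≤ E := by
    obtain ⟨k, hk⟩ := (isNilpotent_iff_lowerCentralSeries R₂).1 inferInstance
    exact ⟨k, by rw [hk, bot_inf_eq]; exact bot_le⟩
  rcases hk : Nat.find hex with _ | k
  · have h1 := Nat.find_spec hex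
    rw [hk] at h1
    have h3 : Qu ≤ E := fun y hy => h1 ⟨hPR₂ (mem_sup_right hy), mem_sup_right hy⟩
    refine hy₁1 (eq_one_of_inv_self (odd_orderOf_of_mem hPodd (mem_sup_right hy₁)) ?_)
    rw [← hQuinv y₁ hy₁]
    exact conj_eq_of_commute (hE.comm _ (h3 hy₁)).symm
  have hnot := Nat.find_min hex (show k < Nat.find hex by omega)
  obtain ⟨p, hp, hpE⟩ := SetLike.not_le_iff_exists.1 hnot
  obtain ⟨x, hx, y, hy, rfl⟩ := (hPmem p).1 hp.2
  have hy1 : y ≠ 1 := fun e => hpE (by rw [e, mul_one]; exact hx)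
  have hdp : d * (x * y) * d⁻¹ * (x * y)⁻¹ ∈ E := by
    have h1 := Nat.find_spec hex
    rw [hk] at h1
    refine h1 ⟨?_, ?_⟩
    · rw [Subgroup.lowerCentralSeries_succ]
      have h3 : ⁅x * y, d⁆ ∈ ⁅R₂.lowerCentralSeries k, R₂⁆ := commutator_mem_commutator hp.1 hdR
      have := inv_mem h3
      rwa [commutatorElement_inv, commutatorElement_def] at this
    · exact P.mul_mem ((mem_normalizer_iff.1 (hR₂N d hdR).2 _).1 hp.2) (P.inv_mem hp.2)
  have hdy : d * y * d⁻¹ * y⁻¹ ∈ E := by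
    have hdx : d * x * d⁻¹ = x := by
      rw [← mem_centralizer_iff.1 (hR₂N d hdR).1 x hx, mul_inv_cancel_right]
    have e : d * (x * y) * d⁻¹ * (x * y)⁻¹ = x * (d * y * d⁻¹ * y⁻¹) * x⁻¹ := by
      rw [show d * (x * y) * d⁻¹ * (x * y)⁻¹ = d * x * d⁻¹ * (d * y * d⁻¹ * y⁻¹) * x⁻¹ by group, hdx]
    rw [e] at hdp
    have h4 := E.mul_mem (E.mul_mem (E.inv_mem hx) hdp) hx
    rwa [show x⁻¹ * (x * (d * y * d⁻¹ * y⁻¹) * x⁻¹) * x = d * y * d⁻¹ * y⁻¹ by group] at h4
  have hdr : IsRElt r d := isRElt_of_mem hR₂ hdR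
  have hyr : IsRElt r y := isRElt_of_mem hQup hy
  have hdX : d ∈ normalizer (E : Set G) := centralizer_le_normalizer _ (hR₂N d hdR).1
  have hyX : y ∈ normalizer (E : Set G) := centralizer_le_normalizer _ (hPCE (mem_sup_right hy))
  have hyv : t * u * y * (t * u)⁻¹ = y⁻¹ := by
    rw [show t * u * y * (t * u)⁻¹ = t * (u * y * u⁻¹) * t⁻¹ by group,
      conj_eq_of_commute (hQuu y hy).symm, hQuinv y hy]
  rcases hC.commutingTori (normalizer (E : Set G)) (t * u) u d y r hI.ne_top
    (mul_mem (hI.le hI.mem_t) hI.mem_u) hI.mem_u h.orderOf_mul h.hu h.mul_ne_right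
    (h.comm.mul_left (Commute.refl u)) hrp hr hdX hyX hdr hyr hdv hdu (hQuu y hy) hyv
    (le_core le_normalizer le_rfl (Setting.odd_of_pGroup hr hE.isP) hdy) with hc' | hc'
  · exact hd1 (eq_one_of_inner hr hB hF₁ hc' hdr hdt)
  · exact hy1 (eq_one_of_inner hr hB hF₁ hc' hyr (hQuinv y hy))

/-- There is no good subgroup. -/
theorem not_good (σ : Hyp G) (hC : Components G) (hr : r ≠ 2)
    (hB : CFixed G r) {t u : G} {E₀ : Subgroup G} (h₀ : Good r t u E₀) : False := by
  obtain ⟨E, hE, hmax⟩ := exists_full σ hC hr hB h₀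
  obtain ⟨b, hb1, hbr, hbC, hbinv, hb | hb⟩ := hE.inv
  · exact not_full σ hC hr hB hE hmax hb1 hbr hbC hbinv hb
  · exact not_full σ hC hr hB hE.other hmax hb1 hbr hbC hbinv hb

end CfsgLib.GW.Pair
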