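import Cfsg.Agent.Lib.GW.Pair.Inner
import Cfsg.Agent.Lib.GW.Pair.Fusion

/-!
# A first pair

If a four-group invariant `r`-subgroup moves elements in two components then some invariant
`r`-subgroup fixed by one involution `t` and moved by the others has a centraliser without normal
2-complement, containing an `r`-element inverted by `t`.
-/

set_option autoImplicit false

namespace CfsgLib.GW.Pair

open Subgroup DihedralGroup
open CfsgLib.TwoGroups CfsgLib.TwoGroups.Dihedral
open CfsgLib.GW.Dne
open CfsgLib.Signalizer (involution_sq involution_inv involution_ne_one orderOf_eq_two_of orderOf_conj)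

universe u

variable {G : Type u} [Group G]

/-- An invariant `r`-subgroup fixed by `t`, moved by `u`, with rich centraliser. -/
structure Good (r : ℕ) (t u : G) (E : Subgroup G) : Prop where
  hT : Four t u
  isP : IsPGroup r E
  four_le : four t u ≤ normalizer (E : Set G)
  comm : ∀ e ∈ E, Commute e t
  moved : ¬ ∀ e ∈ E, Commute e u
  rotC : ¬ Cfsg.HasNormalPComplement 2 (centralizer (E : Set G))
  inv : ∃ b, b ≠ 1 ∧ IsRElt r b ∧ b ∈ centralizer (E : Set G) ∧ t * b * t⁻¹ = b⁻¹ ∧
    (Commute b u ∨ Commute b (t * u))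

namespace Good

variable {r : ℕ} {t u : G} {E : Subgroup G}

theorem other (h : Good r t u E) : Good r t (t * u) E where
  hT := h.hT.mul_right'
  isP := h.isP
  four_le := CfsgLib.GW.four_le (t := t) (u := t * u) (h.four_le (subset_closure (by simp : t ∈ ({t, u} : Set G))))
    (mul_mem (h.four_le (subset_closure (by simp : t ∈ ({t, u} : Set G))))
      (h.four_le (subset_closure (by simp : u ∈ ({t, u} : Set G)))))
  comm := h.comm
  moved := fun hall => h.moved fun e he => by
    have := (h.comm e he).mul_right (hall e he)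
    rwa [h.hT.mul_mul_self] at this
  rotC := h.rotC
  inv := by
    obtain ⟨b, h1, h2, h3, h4, h5⟩ := h.inv
    exact ⟨b, h1, h2, h3, h4, h5.symm.imp id fun e => by rwa [h.hT.mul_mul_self]⟩

theorem ne_bot (h : Good r t u E) : E ≠ ⊥ := fun e => h.moved fun x hx => by
  rw [e, mem_bot] at hx
  rw [hx]
  exact Commute.one_left u

theorem inner [Finite G] [Fact r.Prime] (σ : Hyp G) (hr : r ≠ 2) (h : Good r t u E) :
    Inner (normalizer (E : Set G)) (centralizer (E : Set G)) t u where
  hT := h.hT
  ne_top := normalizer_ne_top σ hr h.isP h.ne_bot h.hT.ht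
  le := fun x hx => mem_normalizer_of_conj fun e he => by
    rw [← mem_centralizer_iff.1 hx e he, mul_inv_cancel_right]; exact he
  normal := fun y hy => mem_normalizer_of_conj fun z hz => mem_centralizer_iff.2 fun p hp => by
    have hp' : y⁻¹ * p * y ∈ E := (mem_normalizer_iff''.1 hy p).1 hp
    have h4 := mem_centralizer_iff.1 hz _ hp'
    calc p * (y * z * y⁻¹) = y * ((y⁻¹ * p * y) * z) * y⁻¹ := by group
      _ = y * (z * (y⁻¹ * p * y)) * y⁻¹ := by rw [h4]
      _ = y * z * y⁻¹ * p := by group
  rotN := h.rotC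
  mem_t := mem_centralizer_iff.2 fun e he => (h.comm e he).eq
  mem_u := h.four_le (subset_closure (by simp))
  not_mem := fun hu => h.moved fun e he => mem_centralizer_iff.1 hu e he

end Good

/-- Fixed by the whole four-group. -/
def Small (t u : G) (E : Subgroup G) : Prop := ∀ e ∈ E, Commute e t ∧ Commute e u

theorem four_eq_of_mem {t u w : G} (h : Four t u) (hw : w = t ∨ w = u ∨ w = t * u) :
    ∃ v, Four w v ∧ four w v = four t u := by
  have ht : t ∈ four t u := subset_closure (by simp)
  have hu : u ∈ four t u := subset_closure (by simp)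
  rcases hw with rfl | rfl | rfl
  · exact ⟨u, h, rfl⟩
  · exact ⟨t, h.swap, le_antisymm (four_le hu ht)
      (four_le (subset_closure (by simp)) (subset_closure (by simp)))⟩
  · refine ⟨t, h.mul_right'.swap, le_antisymm (four_le (mul_mem ht hu) ht) ?_⟩
    refine four_le (subset_closure (by simp)) ?_
    have h1 : t * (t * u) ∈ four (t * u) t :=
      mul_mem (subset_closure (by simp)) (subset_closure (by simp))
    rwa [h.mul_mul_self] at h1

variable [Finite G]

/-- A maximal invariant `r`-subgroup. -/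
structure InvR (r : ℕ) (t u : G) (P : Subgroup G) : Prop where
  isP : IsPGroup r P
  four_le : four t u ≤ normalizer (P : Set G)
  maximal : ∀ Q : Subgroup G, IsPGroup r Q → four t u ≤ normalizer (Q : Set G) → P ≤ Q → Q = P

theorem exists_invR {r : ℕ} {t u : G} {E : Subgroup G} (hE : IsPGroup r E)
    (hT : four t u ≤ normalizer (E : Set G)) : ∃ P, InvR r t u P ∧ E ≤ P := by
  obtain ⟨P, ⟨hP, hPT, hEP⟩, hmax⟩ := WellFounded.has_min (wellFounded_gt (α := Subgroup G))
    {P : Subgroup G | IsPGroup r P ∧ four t u ≤ normalizer (P : Set G) ∧ E ≤ P} ⟨E, hE, hT, le_rfl⟩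
  exact ⟨P, ⟨hP, hPT, fun Q hQ hQT hPQ => by
    by_contra hne
    exact hmax Q ⟨hQ, hQT, hEP.trans hPQ⟩ (lt_of_le_of_ne hPQ (Ne.symm hne))⟩, hEP⟩

omit [Finite G] in
theorem InvR.map {r : ℕ} {t u : G} {P : Subgroup G} (h : InvR r t u P) {c : G}
    (hc : (four t u).map (MulAut.conj c).toMonoidHom = four t u) :
    InvR r t u (P.map (MulAut.conj c).toMonoidHom) := by
  have hc' : (four t u).map (MulAut.conj c⁻¹).toMonoidHom = four t u := by
    nth_rewrite 1 [← hc]
    rw [← CfsgLib.TwoGroups.map_conj_mul, inv_mul_cancel, CfsgLib.TwoGroups.map_conj_one]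
  refine ⟨h.isP.map _, ?_, fun Q hQ hQT hPQ => ?_⟩
  · rw [CfsgLib.Transfer.normalizer_map_conj, ← hc]
    exact map_mono h.four_le
  · have e := h.maximal (Q.map (MulAut.conj c⁻¹).toMonoidHom) (hQ.map _) (by
      rw [CfsgLib.Transfer.normalizer_map_conj, ← hc']
      exact map_mono hQT) (by
      intro p hp
      refine ⟨c * p * c⁻¹, hPQ (CfsgLib.TwoGroups.conj_mem_map_conj hp), ?_⟩
      show c⁻¹ * (c * p * c⁻¹) * c⁻¹⁻¹ = p
      group)
    rw [← e, ← CfsgLib.TwoGroups.map_conj_mul, mul_inv_cancel, CfsgLib.TwoGroups.map_conj_one]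

theorem map_four_of_fixed {t u c : G} (hc : c ∈ centralizer (four t u : Set G)) :
    (four t u).map (MulAut.conj c).toMonoidHom = four t u := by
  rw [CfsgLib.TwoGroups.map_conj_eq_iff_mem_normalizer]
  refine mem_normalizer_of_conj fun x hx => ?_
  rw [← mem_centralizer_iff.1 hc x hx, mul_inv_cancel_right]
  exact hx

variable {r : ℕ} [Fact r.Prime]

/-- Existence of a good subgroup. -/
theorem exists_good (σ : Hyp G) (hr : r ≠ 2) (hB : CFixed G r) {t u g : G}
    (hR : Rot t u g) {R : Subgroup G} (hRp : IsPGroup r R) (hRT : four t u ≤ normalizer (R : Set G))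
    {a : G} (ha : a ∈ R) (hat : Commute a t) (hau : ¬ Commute a u)
    {b : G} (hb : b ∈ R) (hbu : Commute b u) (hbt : ¬ Commute b t) :
    ∃ (t' u' : G) (E : Subgroup G), Good r t' u' E := by
  classical
  by_contra hno
  push Not at hno
  have h : Four t u := four_of_rot hR
  have h2 : Fact (Nat.Prime 2) := ⟨Nat.prime_two⟩
  have hT2 : IsPGroup 2 (four t u) := isPGroup_four h.ht h.hu h.comm
  have key : ∀ m, ∀ P P' : Subgroup G, InvR r t u P → InvR r t u P' →
      Nat.card G - Nat.card (P ⊓ P' : Subgroup G) = m → ¬ Small t u (P ⊓ P') →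
      ∃ c, c ∈ centralizer (four t u : Set G) ∧ P.map (MulAut.conj c).toMonoidHom = P' := by
    intro m
    induction m using Nat.strong_induction_on with
    | _ m ih =>
      intro P P' hP hP' hm hsmall
      by_contra hrel
      have hPP : P ≠ P' := fun e => hrel ⟨1, one_mem _, by
        rw [CfsgLib.TwoGroups.map_conj_one, e]⟩
      set E : Subgroup G := P ⊓ P' with hE
      have hEP : E < P := lt_of_le_of_ne inf_le_left fun e =>
        hPP (hP.maximal P' hP'.isP hP'.four_le (inf_eq_left.1 e)).symm
      have hEP' : E < P' := lt_of_le_of_ne inf_le_right fun e =>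
        hPP (hP'.maximal P hP.isP hP.four_le (inf_eq_right.1 e))
      have hEp : IsPGroup r E := hP.isP.to_le inf_le_left
      set X : Subgroup G := normalizer (E : Set G) with hX
      have hTE : four t u ≤ X := fun w hw => mem_normalizer_of_conj fun z hz =>
        ⟨(mem_normalizer_iff.1 (hP.four_le hw) z).1 hz.1, (mem_normalizer_iff.1 (hP'.four_le hw) z).1 hz.2⟩
      have hA₁ := lt_inf_normalizer hP.isP hEP
      have hA₂ := lt_inf_normalizer hP'.isP hEP'
      set A₁ : Subgroup G := P ⊓ normalizer (E : Set G) with hA₁d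
      set A₂ : Subgroup G := P' ⊓ normalizer (E : Set G) with hA₂d
      have hTA : ∀ {Q : Subgroup G}, InvR r t u Q →
          four t u ≤ normalizer ((Q ⊓ normalizer (E : Set G) : Subgroup G) : Set G) :=
        fun hQ w hw => mem_normalizer_of_conj fun z hz =>
          ⟨(mem_normalizer_iff.1 (hQ.four_le hw) z).1 hz.1,
            (normalizer (E : Set G)).mul_mem ((normalizer (E : Set G)).mul_mem (hTE hw) hz.2)
              ((normalizer (E : Set G)).inv_mem (hTE hw))⟩
      -- both in an odd invariant subgroup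
      have hjoin : ∀ K : Subgroup G, Odd (Nat.card K) → four t u ≤ normalizer (K : Set G) →
          A₁ ≤ K → A₂ ≤ K → False := by
        intro K hK hTK h1 h2'
        obtain ⟨Q, hAQ, hQK, hQ, hQT, hQmax⟩ := exists_invSylow hT2 hK hTK
          (hP.isP.to_le inf_le_left) h1 (hTA hP)
        obtain ⟨c, -, hc, hce⟩ := exists_conj_into hT2 hK hTK hQ hQK hQT hQmax
          (hP'.isP.to_le inf_le_left) h2' (hTA hP')
        obtain ⟨P'', hP'', hQP''⟩ := exists_invR hQ hQT
        have big : ∀ {P₁ P₂ A : Subgroup G}, InvR r t u P₁ → InvR r t u P₂ → E < A → A ≤ P₁ ⊓ P₂ →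
            ∃ c, c ∈ centralizer (four t u : Set G) ∧ P₁.map (MulAut.conj c).toMonoidHom = P₂ := by
          intro P₁ P₂ A h₁ h₂ hEA hA
          refine ih _ ?_ P₁ P₂ h₁ h₂ rfl fun hs => hsmall fun e he => hs e (hA (hEA.le he))
          have h3 : Nat.card E < Nat.card (P₁ ⊓ P₂ : Subgroup G) := by
            refine lt_of_lt_of_le ?_ (Nat.card_le_card_of_injective _ (inclusion_injective hA))
            refine lt_of_le_of_ne (Nat.card_le_card_of_injective _ (inclusion_injective hEA.le))
              fun e => hEA.ne (eq_of_le_of_card_ge hEA.le e.ge)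
          have h4 : Nat.card (P₁ ⊓ P₂ : Subgroup G) ≤ Nat.card G :=
            Nat.card_le_card_of_injective _ (subtype_injective _)
          omega
        obtain ⟨c₁, hc₁, e₁⟩ := big hP hP'' hA₁ (le_inf inf_le_left (hAQ.trans hQP''))
        have hcinv : c⁻¹ ∈ centralizer (four t u : Set G) := inv_mem hc
        have hP''c : InvR r t u (P''.map (MulAut.conj c⁻¹).toMonoidHom) :=
          hP''.map (map_four_of_fixed hcinv)
        have hA₂c : A₂ ≤ P''.map (MulAut.conj c⁻¹).toMonoidHom ⊓ P' := by
          refine le_inf (fun z hz => ?_) inf_le_left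
          refine ⟨c * z * c⁻¹, hQP'' (hce (CfsgLib.TwoGroups.conj_mem_map_conj hz)), ?_⟩
          show c⁻¹ * (c * z * c⁻¹) * c⁻¹⁻¹ = z
          group
        obtain ⟨c₂, hc₂, e₂⟩ := big hP''c hP' hA₂ hA₂c
        refine hrel ⟨c₂ * (c⁻¹ * c₁), mul_mem hc₂ (mul_mem hcinv hc₁), ?_⟩
        rw [CfsgLib.TwoGroups.map_conj_mul, CfsgLib.TwoGroups.map_conj_mul, e₁, e₂]
      have hE1 : E ≠ ⊥ := fun e => hsmall fun x hx => by
        rw [e, mem_bot] at hx
        rw [hx]; exact ⟨Commute.one_left _, Commute.one_left _⟩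
      by_cases hXc : Cfsg.HasNormalPComplement 2 X
      · exact hjoin (oddPart X) (odd_oddPart hXc)
          (hTE.trans (le_normalizer.trans (normalizer_le_oddPart hXc)))
          (fun z hz => (mem_oddPart hXc).2 ⟨hz.2,
            odd_orderOf_of_mem (Setting.odd_of_pGroup hr hP.isP) hz.1⟩)
          (fun z hz => (mem_oddPart hXc).2 ⟨hz.2,
            odd_orderOf_of_mem (Setting.odd_of_pGroup hr hP'.isP) hz.1⟩)
      have hXtop : X ≠ ⊤ := normalizer_ne_top σ hr hEp hE1 h.ht
      obtain ⟨W, w, s, g', hw, hRw, hwX, hsX, hgX, -, -, -⟩ :=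
        exists_central σ h (hTE (subset_closure (by simp))) (hTE (subset_closure (by simp)))
          le_rfl le_normalizer hXc
      have hF : Fused X w s g' := ⟨hXtop, hwX, hsX, hgX, hRw⟩
      have hEw : ∀ e ∈ E, Commute e w := fixed_core hB hF hEp
        (le_core le_normalizer le_rfl (Setting.odd_of_pGroup hr hEp)) hwX
      obtain ⟨v, hwv, hfour⟩ := four_eq_of_mem h hw
      have hmoved : ¬ ∀ e ∈ E, Commute e v := fun hall => hsmall fun e he => by
        have h5 : e ∈ centralizer (four w v : Set G) :=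
          Four.mem_centralizer_iff'.2 ⟨hEw e he, hall e he⟩
        rw [hfour] at h5
        exact Four.mem_centralizer_iff'.1 h5
      -- an element inverted by `w`
      have hex : ∃ Q : Subgroup G, InvR r t u Q ∧
          ¬ ∀ z ∈ Q ⊓ normalizer (E : Set G), Commute z w := by
        by_contra hall
        push Not at hall
        have hXw : Cfsg.HasNormalPComplement 2 (X ⊓ centralizer ({w} : Set G) : Subgroup G) :=
          CfsgLib.Transfer.hasNormalPComplement_of_injective (inclusion inf_le_right)
            (inclusion_injective _) (centralizer_complement σ.inj σ.range σ.pos hwv.ht)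
        refine hjoin (oddPart (X ⊓ centralizer ({w} : Set G))) (odd_oddPart hXw) ?_ ?_ ?_
        · refine le_trans (fun x hx => ?_) (le_normalizer.trans (normalizer_le_oddPart hXw))
          refine ⟨hTE hx, mem_centralizer_of_commute ?_⟩
          rw [← hfour] at hx
          exact (commute_of_mem hwv hx).1
        · exact fun z hz => (mem_oddPart hXw).2 ⟨⟨hz.2, mem_centralizer_of_commute (hall P hP z hz)⟩,
            odd_orderOf_of_mem (Setting.odd_of_pGroup hr hP.isP) hz.1⟩
        · exact fun z hz => (mem_oddPart hXw).2 ⟨⟨hz.2, mem_centralizer_of_commute (hall P' hP' z hz)⟩,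
            odd_orderOf_of_mem (Setting.odd_of_pGroup hr hP'.isP) hz.1⟩
      obtain ⟨Q, hQ, hQw⟩ := hex
      obtain ⟨e, he, he1, heinv, hev⟩ := exists_split hwv
        (K := Q ⊓ normalizer (E : Set G))
        (Setting.odd_of_pGroup hr (hQ.isP.to_le inf_le_left)) (hfour ▸ hTA hQ) hQw
      have her : IsRElt r e := isRElt_of_mem hQ.isP he.1
      have hCE : centralizer (E : Set G) ≤ X := fun x hx => mem_normalizer_of_conj fun z hz => by
        rw [← mem_centralizer_iff.1 hx z hz, mul_inv_cancel_right]; exact hz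
      have hnC : X ≤ normalizer (centralizer (E : Set G) : Set G) := fun y hy =>
        mem_normalizer_of_conj fun z hz => mem_centralizer_iff.2 fun p hp => by
          have hp' : y⁻¹ * p * y ∈ E := (mem_normalizer_iff''.1 hy p).1 hp
          have h4 := mem_centralizer_iff.1 hz _ hp'
          calc p * (y * z * y⁻¹) = y * ((y⁻¹ * p * y) * z) * y⁻¹ := by group
            _ = y * (z * (y⁻¹ * p * y)) * y⁻¹ := by rw [h4]
            _ = y * z * y⁻¹ * p := by group
      have hwC : w ∈ centralizer (E : Set G) := mem_centralizer_iff.2 fun p hp => (hEw p hp).eq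
      refine hno w v E ⟨hwv, hEp, hfour ▸ hTE, hEw, hmoved,
        not_complement hr hB hCE hnC hF hwC he.2 he1 her heinv,
        e, he1, her, mem_of_inverted (odd_of_isRElt hr her) heinv (hnC he.2) hwC, heinv, hev⟩
  -- no pair: the components are full and a rotation normalises a maximal subgroup
  obtain ⟨P, hP, hRP⟩ := exists_invR hRp hRT
  have hrel : ∀ P', InvR r t u P' → ¬ Small t u (P' ⊓ P) →
      ∃ c, c ∈ centralizer (four t u : Set G) ∧ P'.map (MulAut.conj c).toMonoidHom = P :=
    fun P' hP' hs => key _ P' P hP' hP rfl hs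
  have hinfT : ∀ {x : G}, x ∈ four t u → ∀ {Q : Subgroup G}, InvR r t u Q →
      four t u ≤ normalizer ((Q ⊓ centralizer ({x} : Set G) : Subgroup G) : Set G) :=
    fun {x} hx {Q} hQ w hw => mem_normalizer_of_conj (H := Q ⊓ centralizer ({x} : Set G)) fun z hz =>
      ⟨(mem_normalizer_iff.1 (hQ.four_le hw) z).1 hz.1, mem_centralizer_of_commute (by
        obtain ⟨h1, h2'⟩ := commute_of_mem h hw
        have hxw : Commute w x := by
          rcases mem_four_cases h.ht h.hu h.comm hx with rfl | rfl | rfl | rfl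
          exacts [Commute.one_right _, h1, h2', h1.mul_right h2']
        exact (hxw.mul_left (commute_of_mem_centralizer hz.2)).mul_left hxw.inv_left)⟩
  have full : ∀ {x : G}, x ∈ four t u → orderOf x = 2 → ¬ Small t u (P ⊓ centralizer ({x} : Set G)) →
      ∀ K : Subgroup G, IsPGroup r K → K ≤ centralizer ({x} : Set G) →
        Nat.card K ≤ Nat.card (P ⊓ centralizer ({x} : Set G) : Subgroup G) := by
    intro x hx hxo hns K hK hKx
    have hc := centralizer_complement σ.inj σ.range σ.pos hxo
    have hTC : four t u ≤ normalizer (oddPart (centralizer ({x} : Set G)) : Set G) := by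
      refine le_trans (fun w hw => mem_centralizer_of_commute ?_)
        (le_normalizer.trans (normalizer_le_oddPart hc))
      obtain ⟨h1, h2'⟩ := commute_of_mem h hw
      rcases mem_four_cases h.ht h.hu h.comm hx with rfl | rfl | rfl | rfl
      exacts [Commute.one_right _, h1, h2', h1.mul_right h2']
    obtain ⟨Q, hQ0, hQK, hQ, hQT, hQmax⟩ := exists_invSylow hT2 (odd_oddPart hc) hTC
      (hP.isP.to_le inf_le_left)
      (fun z hz => (mem_oddPart hc).2 ⟨hz.2,
        odd_orderOf_of_mem (Setting.odd_of_pGroup hr hP.isP) hz.1⟩) (hinfT hx hP)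
    obtain ⟨P₁, hP₁, hQP₁⟩ := exists_invR hQ hQT
    obtain ⟨c, hc', e⟩ := hrel P₁ hP₁ fun hs => hns fun z hz =>
      hs z ⟨hQP₁ (hQ0 hz), hz.1⟩
    refine le_trans (hQmax K hK fun z hz => (mem_oddPart hc).2
      ⟨hKx hz, odd_orderOf_of_mem (Setting.odd_of_pGroup hr hK) hz⟩) ?_
    rw [← CfsgLib.Transfer.card_map_conj c Q]
    refine Nat.card_le_card_of_injective _ (inclusion_injective (le_inf (e ▸ map_mono hQP₁) ?_))
    rintro _ ⟨z, hz, rfl⟩
    refine mem_centralizer_of_commute ?_
    have h1 := (commute_of_mem_centralizer (oddPart_le _ (hQK hz))).map (MulAut.conj c).toMonoidHom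
    rwa [show (MulAut.conj c).toMonoidHom x = x from
      conj_eq_of_commute (mem_centralizer_iff.1 hc' x hx).symm] at h1
  have htF : t ∈ four t u := subset_closure (by simp)
  have huF : u ∈ four t u := subset_closure (by simp)
  have hst : ¬ Small t u (P ⊓ centralizer ({t} : Set G)) := fun hs =>
    hau (hs a ⟨hRP ha, mem_centralizer_of_commute hat⟩).2
  have hsu : ¬ Small t u (P ⊓ centralizer ({u} : Set G)) := fun hs =>
    hbt (hs b ⟨hRP hb, mem_centralizer_of_commute hbu⟩).1
  set Pg : Subgroup G := P.map (MulAut.conj g).toMonoidHom with hPg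
  have hPg' : InvR r t u Pg := hP.map hR.map_four
  have hPgu : Nat.card (P ⊓ centralizer ({t} : Set G) : Subgroup G) ≤
      Nat.card (Pg ⊓ centralizer ({u} : Set G) : Subgroup G) := by
    rw [← CfsgLib.Transfer.card_map_conj g]
    refine Nat.card_le_card_of_injective _ (inclusion_injective (le_inf (map_mono inf_le_left) ?_))
    rintro _ ⟨z, hz, rfl⟩
    refine mem_centralizer_of_commute ?_
    rw [← hR.conj1]
    exact (commute_of_mem_centralizer hz.2).map (MulAut.conj g).toMonoidHom
  have hcu := centralizer_complement σ.inj σ.range σ.pos h.hu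
  have hTu : four t u ≤ normalizer (oddPart (centralizer ({u} : Set G)) : Set G) := by
    refine le_trans (fun w hw => mem_centralizer_of_commute (commute_of_mem h hw).2)
      (le_normalizer.trans (normalizer_le_oddPart hcu))
  have hodd : ∀ {Q : Subgroup G}, IsPGroup r Q →
      Q ⊓ centralizer ({u} : Set G) ≤ oddPart (centralizer ({u} : Set G)) := fun hQ z hz =>
    (mem_oddPart hcu).2 ⟨hz.2, odd_orderOf_of_mem (Setting.odd_of_pGroup hr hQ) hz.1⟩
  have hmaxg : ∀ K : Subgroup G, IsPGroup r K → K ≤ oddPart (centralizer ({u} : Set G)) →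
      Nat.card K ≤ Nat.card (Pg ⊓ centralizer ({u} : Set G) : Subgroup G) := by
    intro K hK hKo
    refine le_trans ?_ hPgu
    rw [← CfsgLib.Transfer.card_map_conj g⁻¹ K]
    refine full htF h.ht hst _ (hK.map _) ?_
    rintro _ ⟨z, hz, rfl⟩
    refine mem_centralizer_of_commute ?_
    have h1 := (commute_of_mem_centralizer (oddPart_le _ (hKo hz))).map (MulAut.conj g⁻¹).toMonoidHom
    have e : (MulAut.conj g⁻¹).toMonoidHom u = t := by
      show g⁻¹ * u * g⁻¹⁻¹ = t
      rw [← hR.conj1]; group
    rwa [e] at h1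
  obtain ⟨d, -, hd, hde⟩ := invSylow_conj hT2 (odd_oddPart hcu) hTu
    (hPg'.isP.to_le inf_le_left) (hodd hPg'.isP) (hinfT huF hPg') hmaxg
    (hP.isP.to_le inf_le_left) (hodd hP.isP) (hinfT huF hP)
    (fun K hK hKo => full huF h.hu hsu K hK (hKo.trans (oddPart_le _)))
  obtain ⟨c, hc, hce⟩ := hrel (Pg.map (MulAut.conj d).toMonoidHom)
    (hPg'.map (map_four_of_fixed hd)) fun hs => hsu fun z hz => by
      refine hs z ⟨?_, hz.1⟩
      rw [← hde] at hz
      exact map_mono inf_le_left hz
  set k : G := c * d * g with hk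
  have hkP : k ∈ normalizer (P : Set G) := by
    rw [← CfsgLib.TwoGroups.map_conj_eq_iff_mem_normalizer, hk, CfsgLib.TwoGroups.map_conj_mul,
      CfsgLib.TwoGroups.map_conj_mul, ← hPg, hce]
  have hfix : ∀ {x}, x ∈ four t u → c * d * x * (c * d)⁻¹ = x := fun hx =>
    conj_eq_of_commute (mem_centralizer_iff.1 (mul_mem hc hd) _ hx).symm
  have hRk : Rot t u k := by
    refine ⟨h.ht, h.hu, h.ne, h.comm, ?_, ?_⟩
    · rw [hk, show c * d * g * t * (c * d * g)⁻¹ = c * d * (g * t * g⁻¹) * (c * d)⁻¹ by group,
        hR.conj1, hfix huF]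
    · rw [hk, show c * d * g * u * (c * d * g)⁻¹ = c * d * (g * u * g⁻¹) * (c * d)⁻¹ by group,
        hR.conj2, hfix (mul_mem htF huF)]
  have hP1 : P ≠ ⊥ := fun e => by
    have h1 := hRP ha
    rw [e, mem_bot] at h1
    exact hau (h1 ▸ Commute.one_left u)
  exact hau (fixed_core hB (fused_rotate
    ⟨normalizer_ne_top σ hr hP.isP hP1 h.ht, hP.four_le htF, hP.four_le huF, hkP, hRk⟩) hP.isP
    (le_core le_normalizer le_rfl (Setting.odd_of_pGroup hr hP.isP)) (hP.four_le huF) a (hRP ha))

end CfsgLib.GW.Pair
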