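import Cfsg.Agent.Lib.GW.Pair.Tools
import Mathlib.GroupTheory.SpecificGroups.Alternating.Simple

/-!
# A proper subgroup with one inner involution in a four-group

`X` contains the four-group `⟨t, u⟩` and a normal subgroup `N` without normal 2-complement that
contains `t` and not `u`.  Then `t` is central in a Sylow 2-subgroup, `X` has a subgroup of index
two containing `N`, and a fixed Sylow `r`-subgroup of `C_X(t)` centralises a rotated four-group
as soon as some `r`-element of `C_X(u)` is inverted by `t`.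
-/

set_option autoImplicit false

namespace CfsgLib.GW.Pair

open Subgroup DihedralGroup
open CfsgLib.TwoGroups CfsgLib.TwoGroups.Dihedral
open CfsgLib.GW.Dne
open CfsgLib.Signalizer (involution_sq involution_inv involution_ne_one orderOf_eq_two_of orderOf_conj)

universe u

/-- The quotient by a normal subgroup containing a four-group of a dihedral group has order two. -/
theorem model_index {n : ℕ} (hn : 1 ≤ n) {W' N' : Subgroup (DihedralGroup (2 ^ n))} (hNW : N' ≤ W')
    (hnorm : ∀ w ∈ W', ∀ x ∈ N', w * x * w⁻¹ ∈ N') {t s u : DihedralGroup (2 ^ n)} (htN : t ∈ N')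
    (hsN : s ∈ N') (huW : u ∈ W') (huN : u ∉ N') (hts : t ≠ s) (hs1 : s ≠ 1) (ht1 : t ≠ 1)
    (ht2 : t * t = 1) (hs2 : s * s = 1) (hu2 : u * u = 1) (htc : ∀ w ∈ W', Commute w t) :
    ∀ w ∈ W', w ∈ N' ∨ w * u ∈ N' := by
  classical
  haveI : NeZero (2 ^ n) := ⟨pow_ne_zero _ two_ne_zero⟩
  have hu1 : u ≠ 1 := fun e => huN (e ▸ one_mem _)
  have hut : u ≠ t := fun e => huN (e ▸ htN)
  obtain rfl : t = r (half n) := by
    rcases t with k | i
    · rcases sq_eq_one_r hn ht2 with e | e
      · exact absurd e ht1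
      · rw [e]
    · exfalso
      have hsu : Commute s u := by
        have key : ∀ x, x * x = 1 → Commute x (sr i) → x = 1 ∨ x = sr i ∨ x = sr (i + half n) ∨
            x = r (half n) := by
          rintro (k | j) hx hxc
          · rcases sq_eq_one_r hn hx with e | e
            · exact Or.inl e
            · exact Or.inr (Or.inr (Or.inr (congrArg r e)))
          · have h' : sr j * sr i = sr i * sr j := hxc
            rw [sr_mul_sr, sr_mul_sr, r.injEq] at h'
            rcases (two_mul_eq_zero_iff hn (a := j - i)).1 (by linear_combination -h') with e | e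
            · exact Or.inr (Or.inl (congrArg sr (sub_eq_zero.1 e)))
            · exact Or.inr (Or.inr (Or.inl (congrArg sr (by linear_combination e))))
        have e1 : sr (i + half n) = sr i * r (half n) := (sr_mul_r _ _).symm
        have e2 : Commute (r (half n)) (sr i) := by
          show r (half n) * sr i = sr i * r (half n)
          rw [r_mul_sr, sr_mul_r, sub_eq_add_neg, neg_half hn]
        rcases key s hs2 (htc s (hNW hsN)) with rfl | rfl | rfl | rfl
        · exact absurd rfl hs1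
        · exact absurd rfl hts
        all_goals
          rcases key u hu2 (htc u huW) with rfl | rfl | rfl | rfl
        all_goals first
          | exact Commute.one_right _
          | exact (htc _ huW).symm
          | exact htc _ (hNW hsN)
          | exact e2
          | exact e2.symm
          | (rw [e1]; exact (e2.symm.mul_left (Commute.refl _)))
          | (rw [e1]; exact (e2.mul_right (Commute.refl _)))
          | exact Commute.refl _
      rcases model_three hn ht2 hs2 hu2 ht1 hs1 hts (htc s (hNW hsN)).symm (htc u huW).symm hsu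
        with e | e | e | e
      exacts [hu1 e, hut e, huN (e ▸ hsN), huN (e ▸ mul_mem htN hsN)]
  obtain ⟨i, rfl⟩ : ∃ i, s = sr i := by
    rcases s with k | i
    · rcases sq_eq_one_r hn hs2 with e | e
      · exact absurd e hs1
      · exact absurd (congrArg r e).symm hts
    · exact ⟨i, rfl⟩
  obtain ⟨j, rfl⟩ : ∃ j, u = sr j := by
    rcases u with k | j
    · rcases sq_eq_one_r hn hu2 with e | e
      · exact absurd e hu1
      · exact absurd (congrArg r e) hut
    · exact ⟨j, rfl⟩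
  let A : AddSubgroup (ZMod (2 ^ n)) :=
    { carrier := {k | r k ∈ W'}
      zero_mem' := W'.one_mem
      add_mem' := fun {x y} hx hy => by
        show r (x + y) ∈ W'
        rw [← r_mul_r]; exact mul_mem hx hy
      neg_mem' := fun {x} hx => by
        show r (-x) ∈ W'
        rw [← inv_r]; exact inv_mem hx }
  obtain ⟨e, he⟩ := (inferInstance : IsAddCyclic A).exists_zsmul_surjective
  have hA : ∀ k, r k ∈ W' → ∃ a : ℤ, k = a * (e : ZMod (2 ^ n)) := fun k hk => by
    obtain ⟨a, ha⟩ := he ⟨k, hk⟩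
    exact ⟨a, by rw [← zsmul_eq_mul, ← AddSubgroup.coe_zsmul]; exact (congrArg Subtype.val ha).symm⟩
  have heven : ∀ a : ℤ, Even a → r ((a : ZMod (2 ^ n)) * (e : ZMod (2 ^ n))) ∈ N' := by
    rintro a ⟨b, rfl⟩
    have hbW : r ((b : ZMod (2 ^ n)) * (e : ZMod (2 ^ n))) ∈ W' := by
      have := (b • e).2
      rw [AddSubgroup.coe_zsmul, zsmul_eq_mul] at this
      exact this
    have h1 := mul_mem hsN (hnorm _ (inv_mem hbW) _ hsN)
    rw [inv_inv, inv_r, r_mul_sr, sr_mul_r, sr_mul_sr] at h1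
    have e3 : i - -((b : ZMod (2 ^ n)) * (e : ZMod (2 ^ n))) + (b : ZMod (2 ^ n)) * e - i =
        ((b + b : ℤ) : ZMod (2 ^ n)) * (e : ZMod (2 ^ n)) := by push_cast; ring
    rwa [e3] at h1
  have hdW : r (j - i) ∈ W' := by
    rw [← sr_mul_sr]; exact mul_mem (hNW hsN) huW
  obtain ⟨b, hb⟩ := hA _ hdW
  have hbodd : Odd b := by
    rw [← Int.not_even_iff_odd]
    intro hbe
    refine huN ?_
    have := mul_mem hsN (heven b hbe)
    rwa [sr_mul_r, ← hb, add_sub_cancel] at this
  have hrot : ∀ k, r k ∈ W' → r k ∈ N' ∨ r (k - (j - i)) ∈ N' := by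
    intro k hk
    obtain ⟨a, rfl⟩ := hA k hk
    rcases Int.even_or_odd a with ha | ha
    · exact Or.inl (heven a ha)
    · refine Or.inr ?_
      have := heven (a - b) (ha.sub_odd hbodd)
      rwa [Int.cast_sub, sub_mul, ← hb] at this
  rintro (k | m) hw
  · refine (hrot k hw).imp_right fun h => ?_
    have := mul_mem h hsN
    rw [r_mul_sr] at this
    rw [r_mul_sr]
    rwa [show i - (k - (j - i)) = j - k by ring] at this
  · have hmW : r (m - i) ∈ W' := by
      rw [← sr_mul_sr]; exact mul_mem (hNW hsN) hw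
    rcases hrot _ hmW with h | h
    · left
      have := mul_mem hsN h
      rwa [sr_mul_r, add_sub_cancel] at this
    · right
      rw [sr_mul_sr]
      have := inv_mem h
      rwa [inv_r, show -(m - i - (j - i)) = j - m by ring] at this

variable {G : Type u} [Group G]

/-- `X` contains `t`, `u`, and `N` is normal in `X`, not 2-nilpotent, contains `t` but not `u`. -/
structure Inner (X N : Subgroup G) (t u : G) : Prop where
  hT : Four t u
  ne_top : X ≠ ⊤
  le : N ≤ X
  normal : X ≤ normalizer (N : Set G)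
  rotN : ¬ Cfsg.HasNormalPComplement 2 N
  mem_t : t ∈ N
  mem_u : u ∈ X
  not_mem : u ∉ N

theorem Inner.other {X N : Subgroup G} {t u : G} (h : Inner X N t u) : Inner X N t (t * u) :=
  ⟨h.hT.mul_right', h.ne_top, h.le, h.normal, h.rotN, h.mem_t, mul_mem (h.le h.mem_t) h.mem_u,
    fun e => h.not_mem (by simpa using (Subgroup.mul_mem_cancel_left N h.mem_t).1 e)⟩

variable [Finite G]

/-- A fixed element inverted by `t` inside a normalised `r`-subgroup. -/
theorem exists_inverted_fixed {r : ℕ} [Fact r.Prime] (hr : r ≠ 2) {R B P : Subgroup G}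
    (hR : IsPGroup r R) (hBR : B ≤ R) (hPR : P ≤ R) {t : G} (ht : orderOf t = 2)
    (htB : t ∈ normalizer (B : Set G)) (hPB : P ≤ normalizer (B : Set G))
    (htP : ∀ p ∈ P, Commute p t) (hne : ¬ ∀ b ∈ B, Commute b t) :
    ∃ b ∈ B, b ≠ 1 ∧ t * b * t⁻¹ = b⁻¹ ∧ ∀ p ∈ P, Commute b p := by
  classical
  haveI := hR.isNilpotent
  obtain ⟨B', ⟨hB'B, htB', hPB', hB'⟩, hmin⟩ := WellFounded.has_min
    (wellFounded_lt (α := Subgroup G))
    {B' : Subgroup G | B' ≤ B ∧ t ∈ normalizer (B' : Set G) ∧ P ≤ normalizer (B' : Set G) ∧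
      ¬ ∀ b ∈ B', Commute b t}
    ⟨B, le_rfl, htB, hPB, hne⟩
  set D : Subgroup G := ⁅B', P⁆ with hD
  have hDB : D ≤ B' := CfsgLib.Core.commutator_le_of_normalizes hPB'
  have hDP : P ≤ normalizer (D : Set G) :=
    le_sup_right.trans (CfsgLib.Core.le_normalizer_commutator_self P B')
  have htD : t ∈ normalizer (D : Set G) := by
    rw [← CfsgLib.Transfer.map_conj_eq_self_iff, hD, map_commutator]
    have hPt : P.map (MulAut.conj t).toMonoidHom = P := by
      refine eq_of_le_of_card_ge ?_ (CfsgLib.Transfer.card_map_conj t P).ge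
      rintro _ ⟨p, hp, rfl⟩
      show t * p * t⁻¹ ∈ P
      rw [conj_eq_of_commute (htP p hp).symm]
      exact hp
    rw [CfsgLib.Transfer.map_conj_eq_self_iff.2 htB', hPt]
  have hDc : ∀ b ∈ D, Commute b t := by
    by_contra hno
    have heq : D = B' := by
      by_contra hne'
      exact hmin D ⟨hDB.trans hB'B, htD, hDP, hno⟩ (lt_of_le_of_ne hDB hne')
    have hk : ∀ k, B' ≤ R.lowerCentralSeries k := by
      intro k
      induction k with
      | zero => exact hB'B.trans hBR
      | succ k ih => exact heq.ge.trans (commutator_mono ih hPR)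
    obtain ⟨k, hk0⟩ := (isNilpotent_iff_lowerCentralSeries R).1 inferInstance
    refine hB' fun b hb => ?_
    have h2 := hk k hb
    rw [hk0, mem_bot] at h2
    rw [h2]
    exact Commute.one_left t
  obtain ⟨b₀, hb₀, hb₀t⟩ : ∃ b ∈ B', ¬ Commute b t := by simpa using hB'
  set b : G := b₀ * (t * b₀⁻¹ * t⁻¹) with hb
  have hbB : b ∈ B' := mul_mem hb₀ ((mem_normalizer_iff.1 htB' _).1 (inv_mem hb₀))
  have hbinv : t * b * t⁻¹ = b⁻¹ := inverted_of_split ht
  have hbodd : Odd (orderOf b) :=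
    odd_orderOf_of_mem (Setting.odd_of_pGroup hr hR) (hBR (hB'B hbB))
  refine ⟨b, hB'B hbB, fun e => hb₀t (split_eq_one_iff.1 e), hbinv, fun p hp => ?_⟩
  have h1 : b * p * b⁻¹ * p⁻¹ ∈ D := by
    simpa [commutatorElement_def] using commutator_mem_commutator hbB hp
  have h2 := conj_eq_of_commute (hDc _ h1).symm
  rw [show t * (b * p * b⁻¹ * p⁻¹) * t⁻¹ =
      t * b * t⁻¹ * (t * p * t⁻¹) * (t * b * t⁻¹)⁻¹ * (t * p * t⁻¹)⁻¹ by group,
    hbinv, conj_eq_of_commute (htP p hp).symm, inv_inv] at h2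
  have h3 : Commute (b * b) p := by
    show b * b * p = p * (b * b)
    have h4 := mul_right_cancel h2
    calc b * b * p = b * (b * p * b⁻¹) * b := by group
      _ = b * (b⁻¹ * p * b) * b := by rw [h4]
      _ = p * (b * b) := by group
  obtain ⟨k, hk⟩ := mem_zpowers_sq hbodd
  rw [← hk]
  exact h3.zpow_left k

variable {σ : Hyp G}

namespace Inner

variable {X N : Subgroup G} {t u : G}

/-- The Sylow subgroup with central `t` and a fused four-group in it. -/
theorem central (σ : Hyp G) (h : Inner X N t u) :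
    ∃ (W : Sylow 2 X) (s g : G), Fused X t s g ∧ s ∈ N ∧ g ∈ N ∧
      four t u ≤ (W : Subgroup X).map X.subtype ∧ s ∈ (W : Subgroup X).map X.subtype ∧
      ∀ x ∈ (W : Subgroup X).map X.subtype, Commute x t := by
  obtain ⟨W, w, s, g, hw, hR, hwN, hsN, hgN, hTW, hsW, hc⟩ :=
    exists_central σ h.hT (h.le h.mem_t) h.mem_u h.le h.normal h.rotN
  obtain rfl : w = t := by
    rcases hw with e | e | e
    · exact e
    · exact absurd (e ▸ hwN) h.not_mem
    · exact absurd ((Subgroup.mul_mem_cancel_left N h.mem_t).1 (e ▸ hwN)) h.not_mem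
  exact ⟨W, s, g, ⟨h.ne_top, h.le hwN, h.le hsN, h.le hgN, hR⟩, hsN, hgN, hTW, hsW, hc⟩

/-- A subgroup of index two above `N`. -/
theorem index_two (σ : Hyp G) (h : Inner X N t u) :
    ∃ X₁ : Subgroup G, X₁ ≤ X ∧ X₁.relIndex X = 2 ∧ N ≤ X₁ ∧ u ∉ X₁ := by
  classical
  have : Fact (Nat.Prime 2) := ⟨Nat.prime_two⟩
  obtain ⟨W, s, g, hF, hsN, -, hTW, hsW, hc⟩ := h.central σ
  set WG : Subgroup G := (W : Subgroup X).map X.subtype with hWG
  have hWX : WG ≤ X := map_subtype_le _
  obtain ⟨x, hx⟩ := exists_pull σ.range (W.2.map X.subtype : IsPGroup 2 WG)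
  set W' : Subgroup (DihedralGroup (2 ^ σ.n)) := (WG.map (MulAut.conj x).toMonoidHom).comap σ.f with hW'
  set N' : Subgroup (DihedralGroup (2 ^ σ.n)) :=
    ((WG ⊓ N).map (MulAut.conj x).toMonoidHom).comap σ.f with hN'
  have hpull : ∀ w ∈ WG, ∃ p, σ.f p = x * w * x⁻¹ := hx
  have hW'mem : ∀ {p w}, σ.f p = x * w * x⁻¹ → (p ∈ W' ↔ w ∈ WG) := by
    intro p w e
    rw [hW', mem_comap, e]
    exact mem_map_iff_mem (f := (MulAut.conj x).toMonoidHom) (MulAut.conj x).injective
  have hN'mem : ∀ {p w}, σ.f p = x * w * x⁻¹ → (p ∈ N' ↔ w ∈ WG ⊓ N) := by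
    intro p w e
    rw [hN', mem_comap, e]
    exact mem_map_iff_mem (f := (MulAut.conj x).toMonoidHom) (MulAut.conj x).injective
  have htW : t ∈ WG := hTW (subset_closure (by simp))
  have huW : u ∈ WG := hTW (subset_closure (by simp))
  have hdich : ∀ w ∈ WG, w ∈ N ∨ w * u ∈ N := by
    intro w hw
    obtain ⟨pt, hpt⟩ := hpull t htW
    obtain ⟨ps, hps⟩ := hpull s hsW
    obtain ⟨pu, hpu⟩ := hpull u huW
    obtain ⟨pw, hpw⟩ := hpull w hw
    have hsq : ∀ {p a}, σ.f p = x * a * x⁻¹ → a * a = 1 → p * p = 1 := fun e ha => σ.inj (by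
      rw [map_mul, map_one, e]
      rename_i p a
      rw [show x * a * x⁻¹ * (x * a * x⁻¹) = x * (a * a) * x⁻¹ by group, ha, mul_one,
        mul_inv_cancel])
    have hne1 : ∀ {p a}, σ.f p = x * a * x⁻¹ → a ≠ 1 → p ≠ 1 := fun e ha e' => ha (by
      rw [e', map_one] at e
      exact conj_eq_one_iff.1 e.symm)
    have hmul : σ.f (pw * pu) = x * (w * u) * x⁻¹ := by rw [map_mul, hpw, hpu]; group
    have h0 := model_index σ.pos (W' := W') (N' := N')
      (fun p hp => by
        obtain ⟨a, ha, e⟩ := (mem_comap.1 (hN' ▸ hp) : σ.f p ∈ (WG ⊓ N).map (MulAut.conj x).toMonoidHom)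
        exact (hW'mem e.symm).2 ha.1)
      (fun p hp q hq => by
        obtain ⟨a, ha, ea⟩ := (mem_comap.1 (hW' ▸ hp) : σ.f p ∈ WG.map (MulAut.conj x).toMonoidHom)
        obtain ⟨b, hb, eb⟩ :=
          (mem_comap.1 (hN' ▸ hq) : σ.f q ∈ (WG ⊓ N).map (MulAut.conj x).toMonoidHom)
        have ea' : σ.f p = x * a * x⁻¹ := ea.symm
        have eb' : σ.f q = x * b * x⁻¹ := eb.symm
        refine (hN'mem (w := a * b * a⁻¹) (by rw [map_mul, map_mul, map_inv, ea', eb']; group)).2
          ⟨WG.mul_mem (WG.mul_mem ha hb.1) (WG.inv_mem ha), (mem_normalizer_iff.1 (h.normal (hWX ha)) b).1 hb.2⟩)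
      ((hN'mem hpt).2 ⟨htW, h.mem_t⟩) ((hN'mem hps).2 ⟨hsW, hsN⟩) ((hW'mem hpu).2 huW)
      (fun hp => h.not_mem ((hN'mem hpu).1 hp).2)
      (fun e => hF.rot.ne (mul_left_cancel (mul_right_cancel (hpt.symm.trans (e ▸ hps)))))
      (hne1 hps (involution_ne_one hF.rot.hu)) (hne1 hpt (involution_ne_one h.hT.ht))
      (hsq hpt (involution_sq h.hT.ht)) (hsq hps (involution_sq hF.rot.hu))
      (hsq hpu (involution_sq h.hT.hu))
      (fun p hp => σ.inj (by
        obtain ⟨a, ha, ea⟩ := (mem_comap.1 (hW' ▸ hp) : σ.f p ∈ WG.map (MulAut.conj x).toMonoidHom)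
        rw [map_mul, map_mul, show σ.f p = x * a * x⁻¹ from ea.symm, hpt]
        exact ((hc a ha).map (MulAut.conj x).toMonoidHom).eq))
      pw ((hW'mem hpw).2 hw)
    exact h0.imp (fun h1 => ((hN'mem hpw).1 h1).2) (fun h1 => ((hN'mem hmul).1 h1).2)
  set N₀ : Subgroup X := N.subgroupOf X with hN₀
  haveI : N₀.Normal := normal_subgroupOf_of_le_normalizer h.normal
  set π := QuotientGroup.mk' N₀ with hπ
  have hπs : Function.Surjective π := QuotientGroup.mk'_surjective N₀
  set u₀ : X := ⟨u, h.mem_u⟩ with hu₀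
  set P := W.mapSurjective hπs with hP
  have hu2 : π u₀ * π u₀ = 1 := by
    rw [← map_mul, show u₀ * u₀ = 1 from Subtype.ext (involution_sq h.hT.hu), map_one]
  have hPmem : ∀ y ∈ (P : Subgroup (X ⧸ N₀)), y = 1 ∨ y = π u₀ := by
    intro y hy
    rw [hP, Sylow.coe_mapSurjective] at hy
    obtain ⟨w, hw, rfl⟩ := hy
    rcases hdich (w : G) ⟨w, hw, rfl⟩ with h1 | h1
    · exact Or.inl ((QuotientGroup.eq_one_iff w).2 h1)
    · right
      have h2 : π (w * u₀) = 1 := (QuotientGroup.eq_one_iff _).2 h1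
      rw [map_mul] at h2
      calc π w = π w * (π u₀ * π u₀) := by rw [hu2, mul_one]
        _ = π u₀ := by rw [← mul_assoc, h2, one_mul]
  have hcq : Cfsg.HasNormalPComplement 2 (X ⧸ N₀) := by
    rw [CfsgLib.Transfer.hasNormalPComplement_iff_centralizes P]
    intro Q hQ q hq _
    refine mem_centralizer_iff.2 fun y hy => ?_
    rcases hPmem y (hQ hy) with rfl | rfl
    · rw [one_mul, mul_one]
    · have h1 : q * π u₀ * q⁻¹ ∈ Q := (mem_normalizer_iff.1 hq _).1 hy
      rcases hPmem _ (hQ h1) with e | e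
      · rw [conj_eq_one_iff] at e
        rw [e, one_mul, mul_one]
      · exact (mul_inv_eq_iff_eq_mul.1 e).symm
  set M := Cfsg.pResidual 2 (X ⧸ N₀) with hM
  have huM : π u₀ ∉ M := by
    intro hu
    rw [hM, CfsgLib.Transfer.mem_pResidual_iff_coprime hcq] at hu
    by_cases e : π u₀ = 1
    · exact h.not_mem ((QuotientGroup.eq_one_iff u₀).1 e)
    · rw [orderOf_eq_two_of e hu2] at hu
      norm_num at hu
  have hidx : (M.comap π).index = 2 := by
    rw [index_comap_of_surjective _ hπs, Subgroup.index_eq_two_iff]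
    refine ⟨π u₀, fun y => ?_⟩
    obtain ⟨m, hm, p, hp, rfl⟩ : ∃ m ∈ M, ∃ p ∈ (P : Subgroup (X ⧸ N₀)), y = m * p := by
      have h1 : y ∈ M ⊔ (P : Subgroup (X ⧸ N₀)) :=
        (CfsgLib.Transfer.pResidual_sup_sylow P).symm ▸ mem_top y
      rw [sup_comm] at h1
      obtain ⟨n', hn', a, ha, e⟩ := (CfsgLib.Core.mem_sup_iff_mul'
        (le_normalizer_of_normal' M P)).1 h1
      exact ⟨n', hn', a, ha, e⟩
    rcases hPmem p hp with rfl | rfl
    · refine Or.inr ⟨by rwa [mul_one], fun h1 => huM ?_⟩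
      exact (Subgroup.mul_mem_cancel_left M hm).1 (by rwa [mul_one] at h1)
    · refine Or.inl ⟨by rwa [mul_assoc, hu2, mul_one], fun h1 => huM ?_⟩
      exact (Subgroup.mul_mem_cancel_left M hm).1 h1
  refine ⟨(M.comap π).map X.subtype, map_subtype_le _, ?_, fun a ha => ?_, ?_⟩
  · show ((((M.comap π).map X.subtype)).subgroupOf X).index = 2
    rw [subgroupOf, comap_map_eq_self_of_injective X.subtype_injective, hidx]
  · refine ⟨⟨a, h.le ha⟩, ?_, rfl⟩
    show π _ ∈ M
    rw [show π ⟨a, h.le ha⟩ = 1 from (QuotientGroup.eq_one_iff _).2 ha]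
    exact one_mem M
  · rintro ⟨a, ha, e⟩
    obtain rfl : a = u₀ := Subtype.ext e
    exact huM ha
where
  le_normalizer_of_normal' {H : Type u} [Group H] (M : Subgroup H) [M.Normal] (P : Subgroup H) :
      P ≤ normalizer (M : Set H) := fun x _ => by
    rw [normalizer_eq_top]; trivial

theorem not_seven (σ : Hyp G) (h : Inner X N t u) : ¬ Seven X := by
  rintro ⟨e⟩
  obtain ⟨X₁, -, hidx, -, -⟩ := h.index_two σ
  set K : Subgroup X := X₁.subgroupOf X with hK
  have hK2 : K.index = 2 := hidx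
  have hcore : Cfsg.oddCore X ≤ K := by
    intro y hy
    have hy' : Odd (orderOf y) :=
      odd_orderOf_of_mem (CfsgLib.ZStar.odd_card_oddCore X) hy
    exact (zpowers_le.2 (Subgroup.mul_self_mem_of_index_two hK2 y)) (mem_zpowers_sq hy')
  haveI : IsSimpleGroup (alternatingGroup (Fin 7)) := alternatingGroup.isSimpleGroup (by simp)
  set π : X →* alternatingGroup (Fin 7) :=
    e.toMonoidHom.comp (QuotientGroup.mk' (Cfsg.oddCore X)) with hπ
  have hπs : Function.Surjective π := e.surjective.comp (QuotientGroup.mk'_surjective _)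
  haveI := Subgroup.normal_of_index_eq_two hK2
  have hmap : (K.map π).index = 2 := by
    rw [index_map_eq K hπs ?_, hK2]
    intro y hy
    refine hcore ?_
    rw [hπ, MonoidHom.mem_ker, MonoidHom.comp_apply] at hy
    exact (QuotientGroup.eq_one_iff y).1 (e.injective (hy.trans (map_one e).symm))
  haveI := Subgroup.normal_of_index_eq_two hmap
  rcases Subgroup.Normal.eq_bot_or_eq_top (H := K.map π) inferInstance with e' | e'
  · rw [e', index_bot, nat_card_alternatingGroup, Nat.card_fin] at hmap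
    norm_num [Nat.factorial] at hmap
  · rw [e', index_top] at hmap
    norm_num at hmap

variable {r : ℕ} [Fact r.Prime]

/-- The tori of `t` and `u` have coprime orders. -/
theorem coprime (σ : Hyp G) (hC : Components G) (hr : r ≠ 2) (hB : CFixed G r) (h : Inner X N t u)
    {e c : G} (he : e ∈ X) (he1 : e ≠ 1) (her : IsRElt r e) (heu : Commute e u)
    (hte : t * e * t⁻¹ = e⁻¹) (hc : c ∈ X) (hcr : IsRElt r c) (hct : Commute c t)
    (huc : u * c * u⁻¹ = c⁻¹) : c ∈ core X := by
  obtain ⟨W, s, g, hF, -, -, -, -, -⟩ := h.central σ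
  obtain ⟨X₁, hX₁, hidx, hNX₁, huX₁⟩ := h.index_two σ
  refine (hC.coprimeTori X₁ X u t e c r h.ne_top hX₁ hidx h.mem_u huX₁ (hNX₁ h.mem_t) h.hT.hu
    h.hT.ht h.hT.comm (Fact.out : r.Prime) hr he hc her hcr heu hte hct huc).resolve_left ?_
  exact fun hcore => he1 (eq_one_of_inner hr hB hF hcore her hte)

/-- A fixed Sylow subgroup of `C_X(t)` centralises a rotated four-group through `t`. -/
theorem exists_fixed_sylow (σ : Hyp G) (hC : Components G) (hr : r ≠ 2) (hB : CFixed G r)
    (h : Inner X N t u) {e : G} (he : e ∈ X) (he1 : e ≠ 1) (her : IsRElt r e) (heu : Commute e u)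
    (hte : t * e * t⁻¹ = e⁻¹) :
    ∃ P : Subgroup G, IsPGroup r P ∧ P ≤ X ⊓ centralizer ({t} : Set G) ∧
      four t u ≤ normalizer (P : Set G) ∧
      (∀ R : Subgroup G, IsPGroup r R → R ≤ X ⊓ centralizer ({t} : Set G) →
        Nat.card R ≤ Nat.card P) ∧
      (∃ s g, Rot t s g ∧ s ∈ centralizer (P : Set G) ∧ g ∈ centralizer (P : Set G)) ∧
      ∃ b, b ≠ 1 ∧ IsRElt r b ∧ b ∈ centralizer (P : Set G) ∧ t * b * t⁻¹ = b⁻¹ ∧
        (Commute b u ∨ Commute b (t * u)) := by
  classical
  have h2 : Fact (Nat.Prime 2) := ⟨Nat.prime_two⟩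
  obtain ⟨W, s, g, hF, hsN, -, hTW, hsW, hc⟩ := h.central σ
  set WG : Subgroup G := (W : Subgroup X).map X.subtype with hWG
  have hWX : WG ≤ X := map_subtype_le _
  have hT2 : IsPGroup 2 (four t u) := isPGroup_four h.hT.ht h.hT.hu h.hT.comm
  set H : Subgroup G := X ⊓ centralizer ({t} : Set G) with hH
  have hWH : WG ≤ H := le_inf hWX fun w hw => mem_centralizer_of_commute (hc w hw)
  have hCc : Cfsg.HasNormalPComplement 2 (centralizer ({t} : Set G)) :=
    centralizer_complement σ.inj σ.range σ.pos h.hT.ht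
  have hHc : Cfsg.HasNormalPComplement 2 H :=
    CfsgLib.Transfer.hasNormalPComplement_of_injective (inclusion (inf_le_right : H ≤ _))
      (inclusion_injective _) hCc
  set Y : Subgroup G := oddPart H with hY
  have hWY : WG ≤ normalizer (Y : Set G) :=
    hWH.trans (le_normalizer.trans (normalizer_le_oddPart hHc))
  obtain ⟨P, -, hPY, hP, hWP, hPmax⟩ := exists_invSylow (r := r) (W.2.map _ : IsPGroup 2 WG)
    (odd_oddPart hHc) hWY (V := ⊥) IsPGroup.of_bot bot_le (fun x _ => by
      rw [normalizer_eq_top]; trivial)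
  have hPH : P ≤ H := hPY.trans (oddPart_le H)
  have hTP : four t u ≤ normalizer (P : Set G) := hTW.trans hWP
  have hTX : four t u ≤ X := hTW.trans hWX
  have htT : t ∈ four t u := subset_closure (by simp)
  have huT : u ∈ four t u := subset_closure (by simp)
  have hmax : ∀ R : Subgroup G, IsPGroup r R → R ≤ H → Nat.card R ≤ Nat.card P :=
    fun R hR hRH => hPmax R hR fun x hx => (mem_oddPart hHc).2
      ⟨hRH hx, odd_orderOf_of_mem (Setting.odd_of_pGroup hr hR) hx⟩
  have hPt : ∀ p ∈ P, Commute p t := fun p hp => commute_of_mem_centralizer (hPH hp).2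
  have hcore : ∀ p ∈ P, p * (u * p⁻¹ * u⁻¹) ∈ core X := by
    intro p hp
    have h1 : p * (u * p⁻¹ * u⁻¹) ∈ P :=
      mul_mem hp ((mem_normalizer_iff.1 (hTP huT) _).1 (inv_mem hp))
    exact h.coprime σ hC hr hB he he1 her heu hte (hPH h1).1 (isRElt_of_mem hP h1) (hPt _ h1)
      (inverted_of_split h.hT.hu)
  -- `s` centralises `P`
  have hPs : ∀ p ∈ P, Commute p s := by
    intro p hp
    set c : G := p * (s * p⁻¹ * s⁻¹) with hcdef
    have hcP : c ∈ P := mul_mem hp ((mem_normalizer_iff.1 (hWP hsW) _).1 (inv_mem hp))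
    have hsc : s * c * s⁻¹ = c⁻¹ := inverted_of_split hF.rot.hu
    have hcX : c ∈ X := (hPH hcP).1
    have hcU : c ∈ U t := (mem_oddPart hCc).2
      ⟨(hPH hcP).2, odd_orderOf_of_mem (Setting.odd_of_pGroup hr hP) hcP⟩
    have hccore : c ∈ core X := by
      by_cases hsol : Group.IsSolvable X
      · exact hC.solvableLocal X t s g c hF hsol hcU hcX
      · have h1 := hC.rotInverts X t s g c u hF hsol (h.not_seven σ) hcU hcX hsc h.mem_u h.hT.hu
          h.hT.comm.symm (fun e' => h.not_mem (e' ▸ h.mem_t))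
        have h2' := hcore c hcP
        have h3 : c * c ∈ core X := by
          have := mul_mem h2' h1
          rwa [show c * (u * c⁻¹ * u⁻¹) * (u * c * u⁻¹ * c) = c * c by group] at this
        exact (zpowers_le.2 h3) (mem_zpowers_sq
          (odd_orderOf_of_mem (Setting.odd_of_pGroup hr hP) hcP))
    exact split_eq_one_iff.1
      (eq_one_of_inner hr hB (fused_rotate hF) hccore (isRElt_of_mem hP hcP) hsc)
  -- an element inverted by `t` centralising `P`
  set L : Subgroup G := oddPart (N ⊓ centralizer ({u} : Set G)) with hL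
  have hCu : Cfsg.HasNormalPComplement 2 (centralizer ({u} : Set G)) :=
    centralizer_complement σ.inj σ.range σ.pos h.hT.hu
  have hNc : Cfsg.HasNormalPComplement 2 (N ⊓ centralizer ({u} : Set G) : Subgroup G) :=
    CfsgLib.Transfer.hasNormalPComplement_of_injective (inclusion inf_le_right)
      (inclusion_injective _) hCu
  have hLX : L ≤ X := ((oddPart_le _).trans inf_le_left).trans h.le
  have hnormL : ∀ y ∈ X, Commute y u → y ∈ normalizer (L : Set G) := by
    intro y hy hyu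
    refine normalizer_le_oddPart hNc (mem_normalizer_of_conj fun z hz => ?_)
    refine ⟨(mem_normalizer_iff.1 (h.normal hy) z).1 hz.1, mem_centralizer_of_commute ?_⟩
    have := (commute_of_mem_centralizer hz.2).map (MulAut.conj y).toMonoidHom
    rwa [show (MulAut.conj y).toMonoidHom u = u from conj_eq_of_commute hyu] at this
  set K : Subgroup G := core X with hK
  have hLK : L ≤ normalizer (K : Set G) := hLX.trans (le_normalizer_core X)
  set Z : Subgroup G := L ⊔ K with hZ
  have hZmem : ∀ x, x ∈ Z ↔ ∃ a ∈ L, ∃ k ∈ K, x = a * k := fun x => CfsgLib.Core.mem_sup_iff_mul hLK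
  have hZodd : Odd (Nat.card Z) := by
    have h1 := CfsgLib.Core.card_sup_mul_card_inf L K hLK
    exact ((odd_oddPart hNc).mul (odd_core X)).of_dvd_nat (h1 ▸ dvd_mul_right _ _)
  have hZX : Z ≤ X := sup_le hLX (core_le X)
  have hnormZ : ∀ y ∈ X, y ∈ normalizer (L : Set G) → y ∈ normalizer (Z : Set G) := by
    intro y hy hyL
    refine mem_normalizer_of_conj fun z hz => ?_
    obtain ⟨a, ha, k, hk, rfl⟩ := (hZmem z).1 hz
    rw [show y * (a * k) * y⁻¹ = y * a * y⁻¹ * (y * k * y⁻¹) by group]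
    exact mul_mem (mem_sup_left ((mem_normalizer_iff.1 hyL a).1 ha))
      (mem_sup_right ((mem_normalizer_iff.1 (le_normalizer_core X hy) k).1 hk))
  have hTZ : four t u ≤ normalizer (Z : Set G) := four_le
    (hnormZ t (h.le h.mem_t) (hnormL t (h.le h.mem_t) h.hT.comm))
    (hnormZ u h.mem_u (hnormL u h.mem_u (Commute.refl u)))
  -- `P` normalises `Z`
  have hPK : four t u ≤ normalizer ((P ⊓ K : Subgroup G) : Set G) := fun w hw => by
    refine mem_normalizer_of_conj fun z hz => ⟨(mem_normalizer_iff.1 (hTP hw) z).1 hz.1, ?_⟩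
    exact (mem_normalizer_iff.1 (le_normalizer_core X (hTX hw)) z).1 hz.2
  have hPZ : P ≤ normalizer (Z : Set G) := by
    intro p hp
    have hp2 : ∀ a ∈ four t u, p⁻¹ * (a * p * a⁻¹) ∈ P ⊓ K := by
      intro a ha
      have h1 : p⁻¹ * (a * p * a⁻¹) ∈ P :=
        mul_mem (inv_mem hp) ((mem_normalizer_iff.1 (hTP ha) p).1 hp)
      refine ⟨h1, ?_⟩
      have hu' : p⁻¹ * (u * p * u⁻¹) ∈ K := by
        have := hcore p⁻¹ (inv_mem hp)
        rwa [inv_inv] at this
      rcases mem_four_cases h.hT.ht h.hT.hu h.hT.comm ha with rfl | rfl | rfl | rfl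
      · simp
      · rw [conj_eq_of_commute (hPt p hp).symm, inv_mul_cancel]; exact one_mem _
      · exact hu'
      · have hq : u * p * u⁻¹ ∈ P := (mem_normalizer_iff.1 (hTP huT) p).1 hp
        rw [show t * u * p * (t * u)⁻¹ = t * (u * p * u⁻¹) * t⁻¹ by group,
          conj_eq_of_commute (hPt _ hq).symm]
        exact hu'
    obtain ⟨n', hn', hfix⟩ := CfsgLib.Core.exists_centralizing_in_coset hPK
      (coprime_of_two hT2 ((Setting.odd_of_pGroup hr hP).of_dvd_nat (card_dvd_of_le inf_le_left)))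
      (Or.inr (CfsgLib.OddLocal.FTFinal.odd_order_solvable
        ((Setting.odd_of_pGroup hr hP).of_dvd_nat (card_dvd_of_le inf_le_left)))) hp2
    have hpn : p * n' ∈ P := mul_mem hp hn'.1
    have h3 : p * n' ∈ normalizer (Z : Set G) := hnormZ _ (hPH hpn).1
      (hnormL _ (hPH hpn).1 ((Four.mem_centralizer_iff' (t := t) (u := u)).1 hfix).2)
    have h4 := mul_mem h3 (inv_mem ((mem_sup_right hn'.2 : n' ∈ Z) |> fun z => le_normalizer z))
    rwa [mul_inv_cancel_right] at h4
  set Z' : Subgroup G := P ⊔ Z with hZ'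
  have hZ'odd : Odd (Nat.card Z') := by
    have h1 := CfsgLib.Core.card_sup_mul_card_inf P Z hPZ
    exact ((Setting.odd_of_pGroup hr hP).mul hZodd).of_dvd_nat (h1 ▸ dvd_mul_right _ _)
  have hTZ' : four t u ≤ normalizer (Z' : Set G) := fun w hw => mem_normalizer_of_conj fun z hz => by
    obtain ⟨a, ha, k, hk, rfl⟩ := (CfsgLib.Core.mem_sup_iff_mul hPZ).1 hz
    rw [show w * (a * k) * w⁻¹ = w * a * w⁻¹ * (w * k * w⁻¹) by group]
    exact mul_mem (mem_sup_left ((mem_normalizer_iff.1 (hTP hw) a).1 ha))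
      (mem_sup_right ((mem_normalizer_iff.1 (hTZ hw) k).1 hk))
  have hZ'X : Z' ≤ X := sup_le (hPH.trans inf_le_left) hZX
  obtain ⟨R, hPR, hRZ, hR, hTR, hRmax⟩ := exists_invSylow hT2 hZ'odd hTZ' hP le_sup_left hTP
  have heN : e ∈ N := mem_of_inverted (odd_of_isRElt hr her) hte (h.normal he) h.mem_t
  have heL : e ∈ L := (mem_oddPart hNc).2
    ⟨⟨heN, mem_centralizer_of_commute heu⟩, odd_of_isRElt hr her⟩
  have heT : four t u ≤ normalizer (zpowers e : Set G) := by
    refine four_le (mem_normalizer_of_conj ?_) (mem_normalizer_of_conj ?_)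
    · rintro _ ⟨j, rfl⟩
      refine ⟨-j, ?_⟩
      show e ^ (-j) = t * e ^ j * t⁻¹
      rw [← conj_zpow, hte, inv_zpow', zpow_neg]
    · rintro _ ⟨j, rfl⟩
      refine ⟨j, ?_⟩
      show e ^ j = u * e ^ j * u⁻¹
      rw [conj_eq_of_commute ((heu.zpow_left j).symm)]
  obtain ⟨k, hk, hkT, hke⟩ := exists_conj_into hT2 hZ'odd hTZ' hR hRZ hTR hRmax
    (isPGroup_zpowers her) (zpowers_le.2 (mem_sup_right (mem_sup_left heL))) heT
  set e' : G := k * e * k⁻¹ with he'
  have he'R : e' ∈ R := hke (CfsgLib.TwoGroups.conj_mem_map_conj (mem_zpowers e))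
  have he'N : e' ∈ N := (mem_normalizer_iff.1 (h.normal (hZ'X hk)) e).1 heN
  obtain ⟨hkt, -⟩ := (Four.mem_centralizer_iff' (t := t) (u := u)).1 hkT
  have he'inv : t * e' * t⁻¹ = e'⁻¹ := by
    rw [he', show t * (k * e * k⁻¹) * t⁻¹ = t * k * t⁻¹ * (t * e * t⁻¹) * (t * k * t⁻¹)⁻¹ by group,
      conj_eq_of_commute hkt.symm, hte]
    group
  set B : Subgroup G := R ⊓ N with hBdef
  have hB0 : ¬ ∀ b ∈ B, Commute b t := fun hall => he1 (by
    have h1 : e'⁻¹ = e' := by
      rw [← he'inv]; exact conj_eq_of_commute (hall e' ⟨he'R, he'N⟩).symm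
    have h2' := eq_one_of_inv_self (odd_orderOf_of_mem (Setting.odd_of_pGroup hr hR) he'R) h1
    exact conj_eq_one_iff.1 h2')
  have hnB : ∀ y ∈ X, y ∈ normalizer (R : Set G) → y ∈ normalizer (B : Set G) := fun y hy hyR =>
    mem_normalizer_of_conj fun z hz =>
      ⟨(mem_normalizer_iff.1 hyR z).1 hz.1, (mem_normalizer_iff.1 (h.normal hy) z).1 hz.2⟩
  obtain ⟨b₁, hb₁, hb₁1, hb₁inv, hb₁P⟩ := exists_inverted_fixed hr hR (inf_le_left : B ≤ R) hPR
    h.hT.ht (hnB t (hTX htT) (hTR htT))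
    (fun p hp => hnB p (hPH hp).1 (le_normalizer (hPR hp))) hPt hB0
  set F : Subgroup G := B ⊓ centralizer (P : Set G) with hFdef
  have hFT : four t u ≤ normalizer (F : Set G) := fun w hw => mem_normalizer_of_conj fun z hz =>
    ⟨(mem_normalizer_iff.1 (hnB w (hTX hw) (hTR hw)) z).1 hz.1, mem_centralizer_iff.2 fun p hp => by
      have hp' : w⁻¹ * p * w ∈ P := (mem_normalizer_iff''.1 (hTP hw) p).1 hp
      have h4 := mem_centralizer_iff.1 hz.2 _ hp'
      calc p * (w * z * w⁻¹) = w * ((w⁻¹ * p * w) * z) * w⁻¹ := by group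
        _ = w * (z * (w⁻¹ * p * w)) * w⁻¹ := by rw [h4]
        _ = w * z * w⁻¹ * p := by group⟩
  obtain ⟨b, hb, hb1, hbinv, hbu⟩ := exists_split h.hT
    ((Setting.odd_of_pGroup hr hR).of_dvd_nat (card_dvd_of_le (inf_le_left.trans inf_le_left)))
    hFT fun hall => hb₁1 (by
      refine eq_one_of_inv_self
        (odd_orderOf_of_mem (Setting.odd_of_pGroup hr hR) hb₁.1) ?_
      rw [← hb₁inv]
      exact conj_eq_of_commute (hall b₁ ⟨hb₁, mem_centralizer_iff.2 fun p hp =>
        (hb₁P p hp).eq.symm⟩).symm)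
  -- the rotation
  set X' : Subgroup G := X ⊓ normalizer (P : Set G) with hX'
  set N' : Subgroup G := X' ⊓ centralizer (P : Set G) ⊓ N with hN'
  have hN'X : X' ≤ normalizer (N' : Set G) := fun y hy => mem_normalizer_of_conj fun z hz =>
    ⟨⟨X'.mul_mem (X'.mul_mem hy hz.1.1) (X'.inv_mem hy), mem_centralizer_iff.2 fun p hp => by
      have hp' : y⁻¹ * p * y ∈ P := (mem_normalizer_iff''.1 hy.2 p).1 hp
      have h4 := mem_centralizer_iff.1 hz.1.2 _ hp'
      calc p * (y * z * y⁻¹) = y * ((y⁻¹ * p * y) * z) * y⁻¹ := by group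
        _ = y * (z * (y⁻¹ * p * y)) * y⁻¹ := by rw [h4]
        _ = y * z * y⁻¹ * p := by group⟩, (mem_normalizer_iff.1 (h.normal hy.1) z).1 hz.2⟩
  have htX' : t ∈ X' := ⟨hTX htT, hTP htT⟩
  have htN' : t ∈ N' :=
    ⟨⟨htX', mem_centralizer_iff.2 fun p hp => (hPt p hp).eq⟩, h.mem_t⟩
  have hsX' : s ∈ X' := ⟨hWX hsW, hWP hsW⟩
  have hRN : ∃ g', g' ∈ X' ∧ Rot t s g' := by
    set H' : Subgroup G := X ⊓ centralizer ({t} : Set G) ⊓ centralizer ({s} : Set G) with hH'
    have hPH' : P ≤ H' := le_inf hPH fun p hp => mem_centralizer_of_commute (hPs p hp)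
    have hgP : P.map (MulAut.conj g).toMonoidHom ≤ H' := by
      rintro _ ⟨p, hp, rfl⟩
      have h1 := (hPt p hp).map (MulAut.conj g).toMonoidHom
      have h2' := (hPs p hp).map (MulAut.conj g).toMonoidHom
      rw [show (MulAut.conj g).toMonoidHom t = s from hF.rot.conj1] at h1
      rw [show (MulAut.conj g).toMonoidHom s = t * s from hF.rot.conj2] at h2'
      refine ⟨⟨X.mul_mem (X.mul_mem hF.mem_g (hPH hp).1) (X.inv_mem hF.mem_g),
        mem_centralizer_of_commute ?_⟩, mem_centralizer_of_commute h1⟩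
      have h3 := h2'.mul_right h1
      rwa [mul_assoc, involution_sq hF.rot.hu, mul_one] at h3
    obtain ⟨c, hc', hce⟩ := exists_conj_of_max (hP.map _) hgP hP hPH'
      (fun R' hR' hR'H => by
        rw [CfsgLib.Transfer.card_map_conj]; exact hmax R' hR' (hR'H.trans inf_le_left))
      (CfsgLib.Transfer.card_map_conj g P).symm
    refine ⟨c * g, mem_inf.2 ⟨X.mul_mem hc'.1.1 hF.mem_g, ?_⟩, hF.rot.ht, hF.rot.hu, hF.rot.ne, hF.rot.comm, ?_, ?_⟩
    · rw [← CfsgLib.TwoGroups.map_conj_eq_iff_mem_normalizer, CfsgLib.TwoGroups.map_conj_mul, hce]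
    · rw [show c * g * t * (c * g)⁻¹ = c * (g * t * g⁻¹) * c⁻¹ by group, hF.rot.conj1,
        conj_eq_of_commute (commute_of_mem_centralizer hc'.2)]
    · rw [show c * g * s * (c * g)⁻¹ = c * (g * s * g⁻¹) * c⁻¹ by group, hF.rot.conj2,
        conj_eq_of_commute ((commute_of_mem_centralizer hc'.1.2).mul_right
          (commute_of_mem_centralizer hc'.2))]
  obtain ⟨g', hg', hR'⟩ := hRN
  have hX'top : X' ≠ ⊤ := fun e' => h.ne_top (top_le_iff.1 (e' ▸ inf_le_left))
  have hbX : b ∈ X' := ⟨h.le hb.1.2, mem_normalizer_of_conj fun p hp => by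
    rw [← mem_centralizer_iff.1 hb.2 p hp, mul_inv_cancel_right]; exact hp⟩
  have hbr : IsRElt r b := isRElt_of_mem hR hb.1.1
  have hnc : ¬ Cfsg.HasNormalPComplement 2 N' := not_complement hr hB
    (inf_le_left.trans inf_le_left) hN'X ⟨hX'top, htX', hsX', hg', hR'⟩ htN' hbX hb1 hbr hbinv
  have hI : Inner X' N' t u := ⟨h.hT, hX'top, inf_le_left.trans inf_le_left, hN'X, hnc, htN',
    ⟨h.mem_u, hTP huT⟩, fun e' => h.not_mem e'.2⟩
  obtain ⟨-, s', g'', hF', hs', hg'', -, -, -⟩ := hI.central σ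
  exact ⟨P, hP, hPH, hTP, hmax, ⟨s', g'', hF'.rot, hs'.1.2, hg''.1.2⟩,
    b, hb1, hbr, hb.2, hbinv, hbu⟩

end Inner

end CfsgLib.GW.Pair
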