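import Cfsg.Agent.Lib.GW.Dne.Setup
import Cfsg.Agent.Lib.GW.OddPart
import Cfsg.Agent.Lib.LocalEven.Generation
import Cfsg.Agent.Lib.PGroups.Basic
import Cfsg.Agent.Lib.TwoGroups.Closed
import Cfsg.Agent.Lib.ZStar.Main
import Cfsg.Agent.Lib.GW.Pair.Config

/-!
# Tools for the one-component lemma

Invariant Sylow subgroups of odd groups, the odd core of a subgroup, and conjugating a rotated
four-group into a 2-subgroup with a given central involution.
-/

set_option autoImplicit false

namespace CfsgLib.GW.Pair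

open Subgroup DihedralGroup
open CfsgLib.TwoGroups CfsgLib.TwoGroups.Dihedral
open CfsgLib.GW.Dne
open CfsgLib.Signalizer (involution_sq involution_inv involution_ne_one orderOf_eq_two_of orderOf_conj)

universe u

variable {G : Type u} [Group G]

/-! ## Four-groups -/

/-- Two distinct commuting involutions. -/
structure Four (t u : G) : Prop where
  ht : orderOf t = 2
  hu : orderOf u = 2
  ne : t ≠ u
  comm : Commute t u

namespace Four

variable {t u : G}

theorem swap (h : Four t u) : Four u t := ⟨h.hu, h.ht, h.ne.symm, h.comm.symm⟩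

theorem orderOf_mul (h : Four t u) : orderOf (t * u) = 2 := by
  refine orderOf_eq_two_of (fun e => h.ne ?_) ?_
  · rw [mul_eq_one_iff_eq_inv, involution_inv h.hu] at e; exact e
  · rw [← pow_two, h.comm.mul_pow, pow_two, pow_two, involution_sq h.ht, involution_sq h.hu,
      one_mul]

theorem mul_ne_left (h : Four t u) : t * u ≠ t := fun e => involution_ne_one h.hu (mul_eq_left.1 e)

theorem mul_ne_right (h : Four t u) : t * u ≠ u := fun e => involution_ne_one h.ht (mul_eq_right.1 e)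

theorem mul_right' (h : Four t u) : Four t (t * u) :=
  ⟨h.ht, h.orderOf_mul, h.mul_ne_left.symm, (Commute.refl t).mul_right h.comm⟩

theorem mul_mul_self (h : Four t u) : t * (t * u) = u := by
  rw [← mul_assoc, involution_sq h.ht, one_mul]

theorem card (h : Four t u) : Nat.card (four t u) = 4 := by
  classical
  have n1 := involution_ne_one h.ht
  have n2 := involution_ne_one h.hu
  have n3 := involution_ne_one h.orderOf_mul
  have hset : (four t u : Set G) = (({1, t, u, t * u} : Finset G) : Set G) := by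
    ext x
    simp only [SetLike.mem_coe, Finset.coe_insert, Finset.coe_singleton, Set.mem_insert_iff,
      Set.mem_singleton_iff]
    refine ⟨mem_four_cases h.ht h.hu h.comm, ?_⟩
    rintro (rfl | rfl | rfl | rfl)
    exacts [one_mem _, subset_closure (by simp), subset_closure (by simp),
      mul_mem (subset_closure (by simp)) (subset_closure (by simp))]
  show Nat.card (four t u : Set G) = 4
  rw [hset, Nat.card_coe_set_eq, Set.ncard_coe_finset, Finset.card_insert_of_notMem
    (by simp [Ne.symm n1, Ne.symm n2, Ne.symm n3]), Finset.card_insert_of_notMem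
    (by simp [h.ne, Ne.symm h.mul_ne_left]), Finset.card_pair (Ne.symm h.mul_ne_right)]

theorem mem_centralizer_iff' {x : G} :
    x ∈ centralizer (four t u : Set G) ↔ Commute x t ∧ Commute x u := by
  refine ⟨fun hx => ⟨(mem_centralizer_iff.1 hx t (subset_closure (by simp))).symm,
    (mem_centralizer_iff.1 hx u (subset_closure (by simp))).symm⟩, fun ⟨h1, h2⟩ => ?_⟩
  rw [mem_centralizer_iff]
  intro y hy
  induction hy using closure_induction with
  | mem z hz => rcases hz with rfl | rfl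
                exacts [h1.eq.symm, h2.eq.symm]
  | one => rw [one_mul, mul_one]
  | mul a b _ _ iha ihb => exact ((Commute.mul_left (iha : Commute a x) (ihb : Commute b x))).eq
  | inv a _ iha => exact (Commute.inv_left iha).eq

variable [Finite G]

/-- If the fixed points of the other two involutions are fixed by `t`, so is the whole group. -/
theorem all_commute (h : Four t u) {K : Subgroup G} (hK : Odd (Nat.card K))
    (hT : four t u ≤ normalizer (K : Set G)) (h1 : ∀ k ∈ K, Commute k u → Commute k t)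
    (h2 : ∀ k ∈ K, Commute k (t * u) → Commute k t) : ∀ k ∈ K, Commute k t := by
  have : Fact (Nat.Prime 2) := ⟨Nat.prime_two⟩
  have hA : IsMulCommutative (four t u) := ⟨⟨fun a b => Subtype.ext (four_comm h a.2 b.2)⟩⟩
  intro k hk
  refine commute_of_mem_centralizer ?_
  refine CfsgLib.LocalEven.le_of_centralizers_le (p := 2) (A := four t u) (N := K)
    (Y := centralizer ({t} : Set G)) (fun a ha => ?_) (by rw [h.card]; norm_num) hT
    hK.not_two_dvd_nat (fun a ha ha1 x hx => ?_) hk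
  · rw [pow_two]
    rcases mem_four_cases h.ht h.hu h.comm ha with rfl | rfl | rfl | rfl
    exacts [one_mul 1, involution_sq h.ht, involution_sq h.hu, involution_sq h.orderOf_mul]
  · have hxa := commute_of_mem_centralizer hx.2
    rcases mem_four_cases h.ht h.hu h.comm ha with rfl | rfl | rfl | rfl
    exacts [absurd rfl ha1, mem_centralizer_of_commute hxa,
      mem_centralizer_of_commute (h1 x hx.1 hxa), mem_centralizer_of_commute (h2 x hx.1 hxa)]
where
  commute_of_mem_four (h : Four t u) {a : G} (ha : a ∈ four t u) : Commute a t ∧ Commute a u := by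
    rcases mem_four_cases h.ht h.hu h.comm ha with rfl | rfl | rfl | rfl
    exacts [⟨Commute.one_left _, Commute.one_left _⟩, ⟨Commute.refl _, h.comm⟩,
      ⟨h.comm.symm, Commute.refl _⟩,
      ⟨(Commute.refl t).mul_left h.comm.symm, h.comm.mul_left (Commute.refl u)⟩]
  four_comm (h : Four t u) {a b : G} (ha : a ∈ four t u) (hb : b ∈ four t u) : a * b = b * a := by
    obtain ⟨h1, h2⟩ := commute_of_mem_four h ha
    rcases mem_four_cases h.ht h.hu h.comm hb with rfl | rfl | rfl | rfl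
    exacts [by rw [one_mul, mul_one], h1.eq, h2.eq, (h1.mul_right h2).eq]

end Four

theorem inverted_of_split {t k : G} (ht : orderOf t = 2) :
    t * (k * (t * k⁻¹ * t⁻¹)) * t⁻¹ = (k * (t * k⁻¹ * t⁻¹))⁻¹ := by
  rw [show t * (k * (t * k⁻¹ * t⁻¹)) * t⁻¹ = t * k * t⁻¹ * ((t * t) * k⁻¹ * (t * t)⁻¹) by group,
    involution_sq ht]
  group

theorem split_eq_one_iff {t k : G} : k * (t * k⁻¹ * t⁻¹) = 1 ↔ Commute k t := by
  rw [mul_eq_one_iff_eq_inv, show (t * k⁻¹ * t⁻¹)⁻¹ = t * k * t⁻¹ by group]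
  exact ⟨fun e => (commute_of_conj_eq e.symm).symm, fun e => (conj_eq_of_commute e.symm).symm⟩

theorem sq_mem_of_inverted {K : Subgroup G} {t b : G} (h : t * b * t⁻¹ = b⁻¹) (hK : b ∈ normalizer (K : Set G))
    (htK : t ∈ K) : b * b ∈ K := by
  have h1 : b * t * b⁻¹ * t⁻¹ ∈ K := mul_mem ((mem_normalizer_iff.1 hK t).1 htK) (inv_mem htK)
  have h2 : t * b⁻¹ * t⁻¹ = b := by
    rw [show t * b⁻¹ * t⁻¹ = (t * b * t⁻¹)⁻¹ by group, h, inv_inv]
  rwa [show b * t * b⁻¹ * t⁻¹ = b * (t * b⁻¹ * t⁻¹) by group, h2] at h1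

variable [Finite G]

theorem mem_zpowers_sq {x : G} (hx : Odd (orderOf x)) : x ∈ zpowers (x * x) := by
  obtain ⟨k, hk⟩ := hx
  refine ⟨((k + 1 : ℕ) : ℤ), ?_⟩
  show (x * x) ^ ((k + 1 : ℕ) : ℤ) = x
  rw [zpow_natCast, ← pow_two, ← pow_mul, show 2 * (k + 1) = orderOf x + 1 by omega, pow_succ,
    pow_orderOf_eq_one, one_mul]

/-- An element of odd order inverted by an element of a normal subgroup lies in it. -/
theorem mem_of_inverted {K : Subgroup G} {t b : G} (hb : Odd (orderOf b))
    (h : t * b * t⁻¹ = b⁻¹) (hK : b ∈ normalizer (K : Set G)) (htK : t ∈ K) : b ∈ K :=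
  (zpowers_le.2 (sq_mem_of_inverted h hK htK)) (mem_zpowers_sq hb)

theorem exists_split {t u : G} (h : Four t u) {K : Subgroup G} (hK : Odd (Nat.card K))
    (hT : four t u ≤ normalizer (K : Set G)) (hne : ¬ ∀ k ∈ K, Commute k t) :
    ∃ k ∈ K, k ≠ 1 ∧ t * k * t⁻¹ = k⁻¹ ∧ (Commute k u ∨ Commute k (t * u)) := by
  by_contra hno
  push Not at hno
  have htK : ∀ k ∈ K, t * k * t⁻¹ ∈ K := fun k hk =>
    (mem_normalizer_iff.1 (hT (subset_closure (by simp))) k).1 hk
  have key : ∀ w, Commute w t → ∀ k ∈ K, Commute k w → ¬ Commute k t →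
      k * (t * k⁻¹ * t⁻¹) ∈ K ∧ Commute (k * (t * k⁻¹ * t⁻¹)) w := fun w hw k hk hkw _ =>
    ⟨mul_mem hk (htK _ (inv_mem hk)),
      hkw.mul_left ((hw.symm.mul_left hkw.inv_left).mul_left hw.symm.inv_left)⟩
  refine hne (h.all_commute hK hT (fun k hk hku => ?_) fun k hk hku => ?_)
  · by_contra hkt
    obtain ⟨h1, h2⟩ := key u h.comm.symm k hk hku hkt
    exact (hno _ h1 (fun e => hkt (split_eq_one_iff.1 e)) (inverted_of_split h.ht)).1 h2
  · by_contra hkt
    obtain ⟨h1, h2⟩ := key (t * u) h.mul_right'.comm.symm k hk hku hkt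
    exact (hno _ h1 (fun e => hkt (split_eq_one_iff.1 e)) (inverted_of_split h.ht)).2 h2

/-! ## Invariant Sylow subgroups of odd groups -/

section InvSylow

variable {r : ℕ} [Fact r.Prime] {A K : Subgroup G}

omit [Fact r.Prime] in
theorem coprime_of_two (hA : IsPGroup 2 A) (hK : Odd (Nat.card K)) :
    (Nat.card A).Coprime (Nat.card K) := by
  have : Fact (Nat.Prime 2) := ⟨Nat.prime_two⟩
  obtain ⟨k, hk⟩ := IsPGroup.iff_card.1 hA
  rw [hk]
  exact (Nat.coprime_two_left.2 hK).pow_left k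

theorem exists_invSylow (hA : IsPGroup 2 A) (hK : Odd (Nat.card K))
    (hAK : A ≤ normalizer (K : Set G)) {V : Subgroup G} (hV : IsPGroup r V) (hVK : V ≤ K)
    (hVA : A ≤ normalizer (V : Set G)) :
    ∃ P : Subgroup G, V ≤ P ∧ P ≤ K ∧ IsPGroup r P ∧ A ≤ normalizer (P : Set G) ∧
      ∀ R : Subgroup G, IsPGroup r R → R ≤ K → Nat.card R ≤ Nat.card P := by
  obtain ⟨P, hVP, hPA⟩ := CfsgLib.Core.exists_invariant_sylow_ge hAK (coprime_of_two hA hK)
    (Or.inr (CfsgLib.OddLocal.FTFinal.odd_order_solvable hK)) hVK hV hVA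
  refine ⟨_, hVP, map_subtype_le _, P.2.map _, hPA, fun R hR hRK => ?_⟩
  obtain ⟨Q, hQ⟩ := (hR.comap_of_injective K.subtype K.subtype_injective).exists_le_sylow
  have h1 : R ≤ (Q : Subgroup K).map K.subtype := fun x hx => ⟨⟨x, hRK hx⟩, hQ hx, rfl⟩
  refine (Nat.card_le_card_of_injective _ (inclusion_injective h1)).trans (le_of_eq ?_)
  rw [card_map_of_injective K.subtype_injective, card_map_of_injective K.subtype_injective,
    Q.card_eq_multiplicity, P.card_eq_multiplicity]

theorem invSylow_conj (hA : IsPGroup 2 A) (hK : Odd (Nat.card K))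
    (hAK : A ≤ normalizer (K : Set G)) {P P' : Subgroup G}
    (hP : IsPGroup r P) (hPK : P ≤ K) (hPA : A ≤ normalizer (P : Set G))
    (hmax : ∀ R : Subgroup G, IsPGroup r R → R ≤ K → Nat.card R ≤ Nat.card P)
    (hP' : IsPGroup r P') (hPK' : P' ≤ K) (hPA' : A ≤ normalizer (P' : Set G))
    (hmax' : ∀ R : Subgroup G, IsPGroup r R → R ≤ K → Nat.card R ≤ Nat.card P') :
    ∃ c ∈ K, c ∈ centralizer (A : Set G) ∧ P.map (MulAut.conj c).toMonoidHom = P' := by
  obtain ⟨c, hc, e⟩ := exists_conj_of_max hP hPK hP' hPK' hmax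
    (le_antisymm (hmax _ hP' hPK') (hmax' _ hP hPK))
  obtain ⟨d, hd, h⟩ := CfsgLib.Core.exists_centralizing_conj hAK (coprime_of_two hA hK)
    (Or.inr (CfsgLib.OddLocal.FTFinal.odd_order_solvable hK)) hPA hPA'
    ⟨c, hc, by rw [CfsgLib.Core.conj_smul_eq_map]; exact e⟩
  exact ⟨d, hd.1, hd.2, by rw [← CfsgLib.Core.conj_smul_eq_map]; exact h⟩

/-- An invariant `r`-subgroup is conjugate by a fixed element into a given invariant Sylow. -/
theorem exists_conj_into (hA : IsPGroup 2 A) (hK : Odd (Nat.card K))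
    (hAK : A ≤ normalizer (K : Set G)) {P : Subgroup G}
    (hP : IsPGroup r P) (hPK : P ≤ K) (hPA : A ≤ normalizer (P : Set G))
    (hmax : ∀ R : Subgroup G, IsPGroup r R → R ≤ K → Nat.card R ≤ Nat.card P)
    {V : Subgroup G} (hV : IsPGroup r V) (hVK : V ≤ K) (hVA : A ≤ normalizer (V : Set G)) :
    ∃ c ∈ K, c ∈ centralizer (A : Set G) ∧ V.map (MulAut.conj c).toMonoidHom ≤ P := by
  obtain ⟨P', hVP', hPK', hP', hPA', hmax'⟩ := exists_invSylow hA hK hAK hV hVK hVA
  obtain ⟨c, hc, hcA, e⟩ := invSylow_conj hA hK hAK hP' hPK' hPA' hmax' hP hPK hPA hmax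
  exact ⟨c, hc, hcA, e ▸ map_mono hVP'⟩

end InvSylow

/-! ## The core of a subgroup -/

theorem core_le (X : Subgroup G) : core X ≤ X := map_subtype_le _

theorem odd_core (X : Subgroup G) : Odd (Nat.card (core X)) := by
  rw [core, card_map_of_injective X.subtype_injective]
  exact CfsgLib.ZStar.odd_card_oddCore X

theorem le_core {X N : Subgroup G} (hN : N ≤ X) (hn : X ≤ normalizer (N : Set G))
    (hodd : Odd (Nat.card N)) : N ≤ core X := by
  intro x hx
  refine ⟨⟨x, hN hx⟩, CfsgLib.ZStar.le_oddCore (normal_subgroupOf_of_le_normalizer hn) ?_ hx, rfl⟩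
  rwa [Nat.card_congr (subgroupOfEquivOfLe hN).toEquiv]

theorem le_normalizer_core (X : Subgroup G) : X ≤ normalizer (core X : Set G) := by
  intro g hg
  refine mem_normalizer_of_conj ?_
  rintro _ ⟨k, hk, rfl⟩
  exact ⟨⟨g, hg⟩ * k * ⟨g, hg⟩⁻¹,
    (CfsgLib.Core.normal_pPrimeCore 2 ↥X).conj_mem k hk ⟨g, hg⟩, rfl⟩

theorem isRElt_of_mem {r : ℕ} {P : Subgroup G} (hP : IsPGroup r P) {x : G} (hx : x ∈ P) :
    IsRElt r x := by
  obtain ⟨k, hk⟩ := hP ⟨x, hx⟩
  exact ⟨k, congrArg Subtype.val hk⟩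

omit [Finite G] in
theorem isPGroup_zpowers {r : ℕ} {x : G} (hx : IsRElt r x) : IsPGroup r (zpowers x) := by
  rintro ⟨y, j, rfl⟩
  obtain ⟨k, hk⟩ := hx
  refine ⟨k, Subtype.ext ?_⟩
  show (x ^ j) ^ r ^ k = 1
  rw [← zpow_natCast, ← zpow_mul, mul_comm, zpow_mul, zpow_natCast, hk, one_zpow]

theorem odd_of_isRElt {r : ℕ} [Fact r.Prime] (hr : r ≠ 2) {x : G} (hx : IsRElt r x) :
    Odd (orderOf x) :=
  odd_orderOf_of_mem (Setting.odd_of_pGroup hr (isPGroup_zpowers hx)) (mem_zpowers x)

omit [Finite G] in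
theorem rot_rotate {t u g : G} (h : Rot t u g) : Rot u (t * u) g := by
  have hf : Four t u := ⟨h.ht, h.hu, h.ne, h.comm⟩
  refine ⟨h.hu, hf.orderOf_mul, hf.mul_ne_right.symm, (h.comm.symm.mul_right (Commute.refl u)),
    h.conj2, ?_⟩
  rw [show g * (t * u) * g⁻¹ = g * t * g⁻¹ * (g * u * g⁻¹) by group, h.conj1, h.conj2]

omit [Finite G] in
theorem fused_rotate {X : Subgroup G} {t u g : G} (h : Fused X t u g) : Fused X u (t * u) g :=
  ⟨h.ne_top, h.mem_u, mul_mem h.mem_t h.mem_u, h.mem_g, rot_rotate h.rot⟩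

omit [Finite G] in
theorem fused_rotate' {X : Subgroup G} {t u g : G} (h : Fused X t u g) : Fused X (t * u) t g := by
  have := fused_rotate (fused_rotate h)
  have e : u * (t * u) = t := by
    rw [← mul_assoc, h.rot.comm.symm.eq, mul_assoc, involution_sq h.rot.hu, mul_one]
  rwa [e] at this

omit [Finite G] in
theorem four_of_rot {t u g : G} (h : Rot t u g) : Four t u := ⟨h.ht, h.hu, h.ne, h.comm⟩

variable {r : ℕ} [Fact r.Prime]

/-- An involution of a rotated four-group centralises the `r`-subgroups of the core it normalises. -/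
theorem fixed_core (hB : CFixed G r) {X P : Subgroup G} {t s g : G} (h : Fused X t s g)
    (hP : IsPGroup r P) (hPX : P ≤ core X) (htP : t ∈ normalizer (P : Set G)) :
    ∀ p ∈ P, Commute p t :=
  hB X P t s g h hP hPX htP

theorem eq_one_of_inner (hr : r ≠ 2) (hB : CFixed G r) {X : Subgroup G} {t s g b : G}
    (h : Fused X t s g) (hb : b ∈ core X) (hbr : IsRElt r b) (hinv : t * b * t⁻¹ = b⁻¹) :
    b = 1 := by
  have htN : t ∈ normalizer (zpowers b : Set G) := by
    refine mem_normalizer_of_conj ?_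
    rintro _ ⟨j, rfl⟩
    refine ⟨-j, ?_⟩
    show b ^ (-j) = t * b ^ j * t⁻¹
    rw [← conj_zpow, hinv, inv_zpow', zpow_neg]
  have := fixed_core hB h (isPGroup_zpowers hbr) (zpowers_le.2 hb) htN b (mem_zpowers b)
  refine eq_one_of_inv_self (odd_of_isRElt hr hbr) ?_
  rw [← hinv]
  exact conj_eq_of_commute this.symm

/-- An element inverted by an involution of a normal 2-nilpotent subgroup lies in the core. -/
theorem mem_core_of_complement {X N : Subgroup G} (hN : N ≤ X) (hn : X ≤ normalizer (N : Set G))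
    (hc : Cfsg.HasNormalPComplement 2 N) {t b : G} (ht : t ∈ N) (hb : b ∈ X)
    (hbo : Odd (orderOf b)) (hinv : t * b * t⁻¹ = b⁻¹) : b ∈ core X :=
  le_core ((oddPart_le N).trans hN) (hn.trans (normalizer_le_oddPart hc)) (odd_oddPart hc)
    ((mem_oddPart hc).2 ⟨mem_of_inverted hbo hinv (hn hb) ht, hbo⟩)

theorem not_complement (hr : r ≠ 2) (hB : CFixed G r) {X N : Subgroup G} (hN : N ≤ X)
    (hn : X ≤ normalizer (N : Set G)) {t s g b : G} (h : Fused X t s g) (ht : t ∈ N) (hb : b ∈ X)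
    (hb1 : b ≠ 1) (hbr : IsRElt r b) (hinv : t * b * t⁻¹ = b⁻¹) :
    ¬ Cfsg.HasNormalPComplement 2 N := fun hc =>
  hb1 (eq_one_of_inner hr hB h
    (mem_core_of_complement hN hn hc ht hb (odd_of_isRElt hr hbr) hinv) hbr hinv)

/-! ## Rotated four-groups through a central involution -/

variable (σ : Hyp G)

omit [Finite G] [Fact r.Prime] in
theorem rot_conj {a b g : G} (h : Rot a b g) (c : G) :
    Rot (c * a * c⁻¹) (c * b * c⁻¹) (c * g * c⁻¹) := by
  refine ⟨by rw [orderOf_conj]; exact h.ht, by rw [orderOf_conj]; exact h.hu,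
    fun e => h.ne (mul_left_cancel (mul_right_cancel e)),
    h.comm.map (MulAut.conj c).toMonoidHom, ?_, ?_⟩
  · rw [show c * g * c⁻¹ * (c * a * c⁻¹) * (c * g * c⁻¹)⁻¹ = c * (g * a * g⁻¹) * c⁻¹ by group,
      h.conj1]
  · rw [show c * g * c⁻¹ * (c * b * c⁻¹) * (c * g * c⁻¹)⁻¹ = c * (g * b * g⁻¹) * c⁻¹ by group,
      h.conj2]
    group

include σ in
omit [Fact r.Prime] in
/-- A subgroup without normal complement: a rotated four-group contains the central involution of
a Sylow subgroup through a given four-group. -/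
theorem exists_central {X N : Subgroup G} {t u : G} (h : Four t u) (htX : t ∈ X) (huX : u ∈ X)
    (hN : N ≤ X) (hn : X ≤ normalizer (N : Set G)) (hc : ¬ Cfsg.HasNormalPComplement 2 N) :
    ∃ (W : Sylow 2 X) (w s g : G), (w = t ∨ w = u ∨ w = t * u) ∧ Rot w s g ∧
      w ∈ N ∧ s ∈ N ∧ g ∈ N ∧
      four t u ≤ (W : Subgroup X).map X.subtype ∧ s ∈ (W : Subgroup X).map X.subtype ∧
      ∀ x ∈ (W : Subgroup X).map X.subtype, Commute x w := by
  classical
  have : Fact (Nat.Prime 2) := ⟨Nat.prime_two⟩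
  obtain ⟨a, b, g, ha, hb, hg, hR⟩ := exists_rot σ.inj σ.range σ.pos N hc
  obtain ⟨W, hW⟩ := ((isPGroup_four h.ht h.hu h.comm).comap_of_injective X.subtype X.subtype_injective :
    IsPGroup 2 ((four t u).subgroupOf X)).exists_le_sylow
  set WG : Subgroup G := (W : Subgroup X).map X.subtype with hWG
  have hTW : four t u ≤ WG := fun x hx => ⟨⟨x, four_le htX huX hx⟩, hW hx, rfl⟩
  have hWnt : Nontrivial (W : Subgroup X) := by
    refine (nontrivial_iff_ne_bot _).2 fun e => involution_ne_one h.ht ?_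
    have := hTW (subset_closure (by simp) : t ∈ four t u)
    rwa [hWG, e, Subgroup.map_bot, mem_bot] at this
  haveI := W.2.center_nontrivial
  obtain ⟨k, hk⟩ := exists_prime_orderOf_dvd_card' 2 (by
    obtain ⟨m, hm⟩ := IsPGroup.iff_card.1 (W.2.to_subgroup (Subgroup.center (W : Subgroup X)))
    have h1 := Finite.one_lt_card (α := Subgroup.center (W : Subgroup X))
    rw [hm] at h1 ⊢
    exact dvd_pow_self 2 (fun e => by simp [e] at h1))
  set w : G := (((k : (W : Subgroup X)) : X) : G) with hw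
  have hwW : w ∈ WG := ⟨_, (k : (W : Subgroup X)).2, rfl⟩
  have hwc : ∀ x ∈ WG, Commute x w := by
    rintro _ ⟨x, hx, rfl⟩
    exact congrArg (fun a : (W : Subgroup X) => ((a : X) : G)) (mem_center_iff.1 k.2 ⟨x, hx⟩)
  have hwo : orderOf w = 2 := by
    rw [hw, Subgroup.orderOf_coe, Subgroup.orderOf_coe, Subgroup.orderOf_coe, hk]
  have hwT : w = t ∨ w = u ∨ w = t * u :=
    (three_involutions σ.inj σ.range σ.pos h.ht h.hu (involution_sq hwo) h.ne h.comm
      (hwc t (hTW (subset_closure (by simp)))) (hwc u (hTW (subset_closure (by simp))))).resolve_left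
      (involution_ne_one hwo)
  obtain ⟨c, hc'⟩ := CfsgLib.TwoGroups.exists_conj_le_sylow W
    ((isPGroup_four hR.ht hR.hu hR.comm).comap_of_injective X.subtype X.subtype_injective)
  have hin : ∀ x, x ∈ four a b → x ∈ X → (c : G) * x * (c : G)⁻¹ ∈ WG := fun x hx hxX =>
    ⟨_, hc' (CfsgLib.TwoGroups.conj_mem_map_conj
      (show (⟨x, hxX⟩ : X) ∈ (four a b).subgroupOf X from hx)), rfl⟩
  have hcN : ∀ x ∈ N, (c : G) * x * (c : G)⁻¹ ∈ N := fun x hx =>
    (mem_normalizer_iff.1 (hn c.2) x).1 hx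
  have hR' := rot_conj hR (c : G)
  set a' : G := (c : G) * a * (c : G)⁻¹ with ha'
  set b' : G := (c : G) * b * (c : G)⁻¹ with hb'
  set g' : G := (c : G) * g * (c : G)⁻¹ with hg'
  have haW : a' ∈ WG := hin a (subset_closure (by simp)) (hN ha)
  have hbW : b' ∈ WG := hin b (subset_closure (by simp)) (hN hb)
  have haN : a' ∈ N := hcN a ha
  have hbN : b' ∈ N := hcN b hb
  have hgN : g' ∈ N := hcN g hg
  rcases (three_involutions σ.inj σ.range σ.pos hR'.ht hR'.hu (involution_sq hwo) hR'.ne hR'.comm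
      (hwc _ haW) (hwc _ hbW)).resolve_left (involution_ne_one hwo) with e | e | e
  · refine ⟨W, w, b', g', hwT, ?_, ?_, hbN, hgN, hTW, hbW, hwc⟩
    · rw [e]; exact hR'
    · rw [e]; exact haN
  · refine ⟨W, w, a' * b', g', hwT, ?_, ?_, mul_mem haN hbN, hgN, hTW, mul_mem haW hbW, hwc⟩
    · rw [e]; exact rot_rotate hR'
    · rw [e]; exact hbN
  · refine ⟨W, w, a', g', hwT, ?_, by rw [e]; exact mul_mem haN hbN, haN, hgN, hTW, haW, hwc⟩
    have := rot_rotate (rot_rotate hR')
    have e' : b' * (a' * b') = a' := by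
      rw [← mul_assoc, hR'.comm.symm.eq, mul_assoc, involution_sq hR'.hu, mul_one]
    rw [e'] at this
    rw [e]; exact this

end CfsgLib.GW.Pair
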